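import Mathlib
import Cfsg.Agent.H563.FC.Spe
import Cfsg.Agent.H710.FC.COdd
import Cfsg.Agent.H198.FC.DefsB
import Cfsg.Agent.H886.FC.ClassB
set_option linter.all false

-- part: H10/U3/Field
section
/-!
# S5764, unitary `n = 3`: lemmas on finite fields
-/

set_option autoImplicit false

namespace Cfsg.Agent.H10.U3

universe u

variable {K : Type u} [Field K] [Finite K]

/-- an element of order two of a cyclic group moving a point of an orbit of length two -/
theorem cyc_aux {G X : Type*} [Group G] [IsCyclic G] [MulAction G X] {ω ω' : X} (hO : ∀ g : G, g • ω = ω ∨ g • ω = ω')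
    (hO' : ∀ g : G, g • ω = ω' → g • ω' = ω) {σ τ : G} (hσ : σ • ω = ω) (hτ : τ • ω ≠ ω)
    (hττ : τ * τ = 1) {y : X} (hy : σ • σ • y = y) : σ • y = y := by
  obtain ⟨x, hx⟩ := IsCyclic.exists_generator (α := G)
  obtain ⟨s, hs⟩ := Subgroup.mem_zpowers_iff.1 (hx σ)
  obtain ⟨t, ht⟩ := Subgroup.mem_zpowers_iff.1 (hx τ)
  have hx2 : (x ^ 2) ∈ MulAction.stabilizer G ω := by
    rw [MulAction.mem_stabilizer_iff, pow_two, mul_smul]
    rcases hO x with h | h
    · rw [h, h]
    · rw [h, hO' x h]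
  have hx1 : x ∉ MulAction.stabilizer G ω := by
    intro h
    apply hτ
    have h1 : τ ∈ MulAction.stabilizer G ω := by
      rw [← ht]
      exact Subgroup.zpow_mem _ h t
    exact MulAction.mem_stabilizer_iff.1 h1
  have hev : ∀ k : ℤ, x ^ (2 * k) ∈ MulAction.stabilizer G ω := by
    intro k
    rw [zpow_mul]
    exact Subgroup.zpow_mem _ (by exact_mod_cast hx2) k
  have hse : Even s := by
    rw [← Int.not_odd_iff_even]
    rintro ⟨k, hk⟩
    apply hx1
    have h1 : x ^ s ∈ MulAction.stabilizer G ω := by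
      rw [hs]
      exact MulAction.mem_stabilizer_iff.2 hσ
    have h2 : x = (x ^ (2 * k))⁻¹ * x ^ s := by
      rw [hk, zpow_add, zpow_one]
      group
    rw [h2]
    exact mul_mem (inv_mem (hev k)) h1
  have hto : Odd t := by
    rw [← Int.not_even_iff_odd]
    rintro ⟨k, hk⟩
    apply hτ
    have h1 : τ ∈ MulAction.stabilizer G ω := by
      rw [← ht, hk, ← two_mul]
      exact hev k
    exact MulAction.mem_stabilizer_iff.1 h1
  obtain ⟨j, hj⟩ := hse
  obtain ⟨k, hk⟩ := hto
  have h1 : σ ^ t = 1 := by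
    have e : σ ^ t = (τ * τ) ^ j := by
      rw [← hs, ← ht, ← zpow_add, ← zpow_mul, ← zpow_mul, hj]
      congr 1
      ring
    rw [e, hττ, one_zpow]
  have h2 : σ ^ 2 ∈ MulAction.stabilizer G y := by
    rw [MulAction.mem_stabilizer_iff, pow_two, mul_smul]
    exact hy
  have h3 : σ ∈ MulAction.stabilizer G y := by
    have e : σ = (σ ^ 2) ^ (k + 1) := by
      have e1 : (σ ^ 2) ^ (k + 1) = σ ^ (t + 1) := by
        rw [hk, ← zpow_natCast σ 2, ← zpow_mul]
        congr 1
        push_cast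
        ring
      rw [e1, zpow_add, h1, one_mul, zpow_one]
    rw [e]
    exact Subgroup.zpow_mem _ h2 _
  exact MulAction.mem_stabilizer_iff.1 h3

/-- an automorphism fixing `ω` has odd order if an involution moves `ω`, `ω² + ω + 1 = 0` -/
theorem fix_of_sq {σ τ : K ≃+* K} {ω y : K} (hω : ω ^ 2 + ω + 1 = 0) (hσ : σ ω = ω) (hτ : τ ω ≠ ω)
    (hττ : ∀ a, τ (τ a) = a) (hy : σ (σ y) = y) : σ y = y := by
  obtain ⟨p, hp⟩ := CharP.exists K
  have hpp : Fact p.Prime := by
    refine ⟨?_⟩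
    exact CharP.char_is_prime K p
  letI := ZMod.algebra K p
  let lift : (K ≃+* K) → Gal(K/ZMod p) := fun ρ =>
    AlgEquiv.ofRingEquiv (f := ρ) (fun x => by
      exact RingHom.congr_fun (Subsingleton.elim ((ρ : K →+* K).comp (algebraMap (ZMod p) K)) (algebraMap (ZMod p) K)) x)
  have hl : ∀ (ρ : K ≃+* K) (a : K), lift ρ a = ρ a := fun _ _ => rfl
  have hroot : ∀ g : Gal(K/ZMod p), g ω = ω ∨ g ω = ω ^ 2 := by
    intro g
    have h1 : (g ω) ^ 2 + g ω + 1 = 0 := by
      rw [← map_pow, ← map_add, ← map_one g, ← map_add, hω, map_zero]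
    have h2 : (g ω - ω) * (g ω - ω ^ 2) = 0 := by
      linear_combination h1 - (g ω) * hω + (ω - 1) * hω
    rcases mul_eq_zero.1 h2 with h3 | h3
    · exact Or.inl (sub_eq_zero.1 h3)
    · exact Or.inr (sub_eq_zero.1 h3)
  have h3 : ω ^ 4 = ω := by
    linear_combination (ω ^ 2 - ω) * hω
  have := cyc_aux (G := Gal(K/ZMod p)) (X := K) (ω := ω) (ω' := ω ^ 2) (fun g => hroot g) (fun g hg => by
    change g ω = ω ^ 2 at hg
    show g (ω ^ 2) = ω
    rw [map_pow, hg, ← pow_mul, h3]) (σ := lift σ) (τ := lift τ) hσ hτ (by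
    ext a
    exact hττ a) (y := y) hy
  exact this

/-- a solution of `α τ(α) = -1` in the field generated by `ω` -/
theorem exists_alpha {τ : K ≃+* K} {ω : K} (hω : ω ^ 2 + ω + 1 = 0) (h3 : (3 : K) ≠ 0) (hτ : τ ω = ω ^ 2) :
    ∃ α : K, α * τ α = -1 ∧ ∀ σ : K ≃+* K, σ ω = ω → σ α = α := by
  obtain ⟨p, hp⟩ := CharP.exists K
  have hpp : Fact p.Prime := ⟨CharP.char_is_prime K p⟩
  have key : ∀ x y : ℕ, ((x : K) ^ 2 - x * y + (y : K) ^ 2 + 1 = 0) →
      ∃ α : K, α * τ α = -1 ∧ ∀ σ : K ≃+* K, σ ω = ω → σ α = α := by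
    intro x y hxy
    refine ⟨x + y * ω, ?_, fun σ hσ => by rw [map_add, map_mul, map_natCast, map_natCast, hσ]⟩
    rw [map_add, map_mul, map_natCast, map_natCast, hτ]
    linear_combination hxy + (x * y + (ω - 1) * (y : K) ^ 2) * hω
  by_cases h2 : (2 : K) = 0
  · refine key 1 0 ?_
    push_cast
    linear_combination h2
  · have hp2 : p ≠ 2 := by
      rintro rfl
      exact h2 (by exact_mod_cast CharP.cast_eq_zero K 2)
    have hp3 : (3 : ZMod p) ≠ 0 := by
      intro h
      apply h3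
      have h4 : ((3 : ℕ) : ZMod p) = 0 := by exact_mod_cast h
      rw [ZMod.natCast_eq_zero_iff] at h4
      exact_mod_cast (CharP.cast_eq_zero_iff K p 3).2 h4
    have hchar : ringChar (ZMod p) ≠ 2 := by
      rw [ZMod.ringChar_zmod_n]
      exact hp2
    obtain ⟨u, v, huv⟩ := FiniteField.exists_root_sum_quadratic
      (f := Polynomial.X ^ 2 + Polynomial.C (1 : ZMod p)) (g := Polynomial.C (3 : ZMod p) * Polynomial.X ^ 2)
      (by compute_degree!) (by compute_degree!) (FiniteField.odd_card_of_char_ne_two hchar)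
    simp only [Polynomial.eval_add, Polynomial.eval_mul, Polynomial.eval_C, Polynomial.eval_pow,
      Polynomial.eval_X] at huv
    refine key (u + v).val (2 * v).val ?_
    have h5 : ∀ a : ZMod p, ((a.val : ℕ) : K) = ZMod.castHom (dvd_refl p) K a := fun a => by
      rw [ZMod.castHom_apply, ZMod.cast_eq_val]
    rw [h5, h5, ← map_one (ZMod.castHom (dvd_refl p) K), ← map_pow, ← map_pow, ← map_mul, ← map_sub, ← map_add,
      ← map_add, ← map_zero (ZMod.castHom (dvd_refl p) K)]
    congr 1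
    linear_combination huv

end Cfsg.Agent.H10.U3
end

-- part: H10/U3/Core
section
/-!
# S5764, unitary `n = 3`: the computation in the eigenbasis of `Z`
-/

set_option autoImplicit false

namespace Cfsg.Agent.H10.U3

open Module Cfsg.Agent.H198.FC

universe u v

variable {K : Type u} [Field K] {V : Type v} [AddCommGroup V] [Module K V]

/-- a similitude from an element of `RB b`, unitary case -/
theorem simil {b : Cl K V} (hU : b.IsU) {x : (R K V)ˣ} (hx : cj K V x ∈ RB b) (hV : ∃ v w, b.B v w ≠ 0) :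
    ∃ μ : K, μ ≠ 0 ∧ b.τ μ = μ ∧ ∀ v w, b.B ((x : R K V) v) ((x : R K V) w) = μ * b.B v w := by
  obtain ⟨v0, w0, h0⟩ := hV
  -- rank one operators
  let X : V → V → R K V := fun x y =>
    { toFun := fun v => b.B v x • y
      map_add' := fun v v' => by rw [b.add_left, add_smul]
      map_smul' := fun a v => by
        show b.B (a • v) x • y = a • b.B v x • y
        rw [b.smul_left, smul_smul] }
  have hX : ∀ x y v, X x y v = b.B v x • y := fun _ _ _ => rfl
  have hadj : ∀ x y, b.Adj (X x y) (X y x) := by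
    intro x y v w
    rw [hX, hX, b.smul_left, b.smul_right, ← hU.2, mul_comm]
  have hinv : ∀ v : V, ((x⁻¹ : (R K V)ˣ) : R K V) ((x : R K V) v) = v := by
    intro v
    rw [← Module.End.mul_apply, Units.inv_mul]
    rfl
  have key : ∀ v w p q, b.B v p * b.B ((x : R K V) q) ((x : R K V) w) =
      b.B q w * b.B ((x : R K V) v) ((x : R K V) p) := by
    intro v w p q
    have h1 := (hx.2 _ _).1 (hadj p q) ((x : R K V) v) ((x : R K V) w)
    rw [cj_apply, cj_apply] at h1
    simp only [Module.End.mul_apply, hinv, hX, map_smul] at h1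
    rw [b.smul_left, b.smul_right, ← hU.2] at h1
    exact h1
  set μ := b.B ((x : R K V) v0) ((x : R K V) w0) / b.B v0 w0 with hμ
  have hmu : ∀ v w, b.B ((x : R K V) v) ((x : R K V) w) = μ * b.B v w := by
    intro v w
    have h1 := key v0 w w0 v
    rw [hμ]
    field_simp
    linear_combination h1
  have hμ0 : μ ≠ 0 := by
    intro h
    apply h0
    have h1 := hmu (((x⁻¹ : (R K V)ˣ) : R K V) v0) (((x⁻¹ : (R K V)ˣ) : R K V) w0)
    have hinv' : ∀ v : V, (x : R K V) (((x⁻¹ : (R K V)ˣ) : R K V) v) = v := by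
      intro v
      rw [← Module.End.mul_apply, Units.mul_inv]
      rfl
    rw [hinv', hinv', h, zero_mul] at h1
    exact h1
  refine ⟨μ, hμ0, ?_, hmu⟩
  have h1 := hmu w0 v0
  have h2 := hmu v0 w0
  rw [hU.2 ((x : R K V) v0), h2, map_mul, hU.2 v0 w0] at h1
  have h3 : b.τ (b.B v0 w0) ≠ 0 := by simpa using h0
  exact mul_right_cancel₀ h3 h1

section co

open Cfsg.Agent.H710.FC

variable {ω : K} {P Z : (R K V)ˣ} {B : Basis (ZMod 3) K V}

/-- the action of `P^i Z^j` on the basis -/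
theorem PZ_apply (hZ : ∀ i, (Z : R K V) (B i) = Heis.ch 3 ω i • B i)
    (hP : ∀ i, (P : R K V) (B i) = B (i + 1)) (i j : ℕ) (m : ZMod 3) :
    ((P : R K V) ^ i * (Z : R K V) ^ j) (B m) = Heis.ch 3 ω m ^ j • B (m + i) := by
  have hPi : ∀ (n : ℕ) (m : ZMod 3), ((P : R K V) ^ n) (B m) = B (m + n) := by
    intro n m
    induction n with
    | zero => rw [pow_zero, Nat.cast_zero, add_zero]; rfl
    | succ n ih => rw [pow_succ', Module.End.mul_apply, ih, hP, Nat.cast_succ, add_assoc]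
  have hZj : ∀ (n : ℕ) (m : ZMod 3), ((Z : R K V) ^ n) (B m) = Heis.ch 3 ω m ^ n • B m := by
    intro n m
    induction n with
    | zero => rw [pow_zero, pow_zero, one_smul]; rfl
    | succ n ih => rw [pow_succ', Module.End.mul_apply, ih, map_smul, hZ, smul_smul, pow_succ]
  rw [Module.End.mul_apply, hZj, map_smul, hPi]

/-- **the support lemma** -/
theorem dicho (h : Heis 3 ω P Z) (hZ : ∀ i, (Z : R K V) (B i) = Heis.ch 3 ω i • B i)
    (hP : ∀ i, (P : R K V) (B i) = B (i + 1)) {u : (R K V)ˣ} {i j : ℕ} {ν : K} (hν : ν ≠ 0)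
    (hu : (u : R K V) * Z = (ν • ((P : R K V) ^ i * (Z : R K V) ^ j)) * u) :
    (∀ m k, B.repr ((u : R K V) (B m)) k ≠ 0) ∨
    (∀ m k l, B.repr ((u : R K V) (B m)) k ≠ 0 → B.repr ((u : R K V) (B m)) l ≠ 0 → k = l) := by
  have hsum : ∀ v : V, v = B.repr v 0 • B 0 + B.repr v 1 • B 1 + B.repr v 2 • B 2 := by
    intro v
    have h1 := (B.sum_repr v).symm
    rw [show (Finset.univ : Finset (ZMod 3)) = {0, 1, 2} from rfl] at h1
    rw [Finset.sum_insert (by decide), Finset.sum_insert (by decide), Finset.sum_singleton, ← add_assoc] at h1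
    exact h1
  have hY : ∀ (v : V) (k : ZMod 3), B.repr (((P : R K V) ^ i * (Z : R K V) ^ j) v) k =
      Heis.ch 3 ω (k - i) ^ j * B.repr v (k - i) := by
    intro v k
    have h1 : ((P : R K V) ^ i * (Z : R K V) ^ j) v = ∑ m, B.repr v m • (Heis.ch 3 ω m ^ j • B (m + i)) := by
      conv_lhs => rw [← B.sum_repr v]
      rw [map_sum]
      refine Finset.sum_congr rfl fun m _ => ?_
      rw [map_smul, PZ_apply hZ hP]
    rw [h1, map_sum, Finsupp.finsetSum_apply, Finset.sum_eq_single (k - i)]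
    · rw [map_smul, map_smul, Basis.repr_self, Finsupp.smul_apply, Finsupp.smul_apply, sub_add_cancel,
        Finsupp.single_eq_same, smul_eq_mul, smul_eq_mul, mul_one, mul_comm]
    · intro m _ hm
      rw [map_smul, map_smul, Basis.repr_self, Finsupp.smul_apply, Finsupp.smul_apply,
        Finsupp.single_eq_of_ne (fun h0 => hm (by rw [h0]; ring)), smul_zero, smul_zero]
    · intro h0
      exact absurd (Finset.mem_univ _) h0
  have hE : ∀ m k, Heis.ch 3 ω m * B.repr ((u : R K V) (B m)) k =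
      ν * (Heis.ch 3 ω (k - i) ^ j * B.repr ((u : R K V) (B m)) (k - i)) := by
    intro m k
    have h1 := LinearMap.congr_fun hu (B m)
    rw [Module.End.mul_apply, hZ, map_smul, Module.End.mul_apply, LinearMap.smul_apply] at h1
    have h2 := congrArg (fun v => B.repr v k) h1
    simp only [map_smul, Finsupp.smul_apply, smul_eq_mul] at h2
    rw [h2, hY]
  have hne : ∀ m, ∃ k, B.repr ((u : R K V) (B m)) k ≠ 0 := by
    intro m
    by_contra hcon
    push Not at hcon
    have h1 : (u : R K V) (B m) = 0 := B.repr.injective (by rw [map_zero]; exact Finsupp.ext hcon)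
    have h2 : ((u⁻¹ : (R K V)ˣ) : R K V) ((u : R K V) (B m)) = B m := by
      rw [← Module.End.mul_apply, Units.inv_mul]
      rfl
    rw [h1, map_zero] at h2
    exact B.ne_zero m h2.symm
  have hiff : ∀ m k, B.repr ((u : R K V) (B m)) k ≠ 0 ↔ B.repr ((u : R K V) (B m)) (k - i) ≠ 0 := by
    intro m k
    have h1 := hE m k
    constructor
    · intro h2 h3
      rw [h3, mul_zero, mul_zero] at h1
      exact mul_ne_zero (h.ch_ne m) h2 h1
    · intro h2 h3
      rw [h3, mul_zero] at h1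
      exact mul_ne_zero hν (mul_ne_zero (pow_ne_zero _ (h.ch_ne _)) h2) h1.symm
  by_cases hi : (i : ZMod 3) = 0
  · right
    intro m k l hk hl
    by_contra hkl
    have h1 : ∀ m k, B.repr ((u : R K V) (B m)) k ≠ 0 → Heis.ch 3 ω m = ν * Heis.ch 3 ω k ^ j := by
      intro m k hk
      have h2 := hE m k
      rw [hi, sub_zero, ← mul_assoc] at h2
      exact mul_right_cancel₀ hk h2
    -- `j = 0` modulo `3`
    have h2 : Heis.ch 3 ω k ^ j = Heis.ch 3 ω l ^ j := mul_left_cancel₀ hν ((h1 m k hk).symm.trans (h1 m l hl))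
    have h3 : ω ^ j = 1 := by
      have hω := h.hω
      have hω0 := h.ω_ne
      have e0 : Heis.ch 3 ω 0 = 1 := h.ch_zero
      have e1 : Heis.ch 3 ω 1 = ω := h.ch_one
      have e2 : Heis.ch 3 ω 2 = ω ^ 2 := h.ch_nat 2
      have hj : (ω ^ j) ^ 3 = 1 := by rw [← pow_mul, mul_comm, pow_mul, hω, one_pow]
      have hj0 : ω ^ j ≠ 0 := pow_ne_zero _ hω0
      have e3 : (ω ^ 2) ^ j = (ω ^ j) ^ 2 := by rw [← pow_mul, ← pow_mul, mul_comm]
      have f1 : (ω ^ j) ^ 2 = 1 → ω ^ j = 1 := by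
        intro hh
        have : (ω ^ j) ^ 3 = (ω ^ j) ^ 2 * ω ^ j := by ring
        rw [hh, one_mul] at this
        rw [← this, hj]
      have f2 : ω ^ j = (ω ^ j) ^ 2 → ω ^ j = 1 := by
        intro hh
        have h5 : ω ^ j * 1 = ω ^ j * ω ^ j := by rw [mul_one, ← pow_two]; exact hh
        exact (mul_left_cancel₀ hj0 h5).symm
      fin_cases k <;> fin_cases l <;>
        first
        | exact absurd rfl hkl
        | (simp only [Fin.zero_eta, Fin.mk_one, Fin.reduceFinMk] at h2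
           first
           | (change Heis.ch 3 ω 0 ^ j = Heis.ch 3 ω 1 ^ j at h2
              rw [e0, e1, one_pow] at h2; exact h2.symm)
           | (change Heis.ch 3 ω 1 ^ j = Heis.ch 3 ω 0 ^ j at h2
              rw [e0, e1, one_pow] at h2; exact h2)
           | (change Heis.ch 3 ω 0 ^ j = Heis.ch 3 ω 2 ^ j at h2
              rw [e0, e2, one_pow, e3] at h2; exact f1 h2.symm)
           | (change Heis.ch 3 ω 2 ^ j = Heis.ch 3 ω 0 ^ j at h2
              rw [e0, e2, one_pow, e3] at h2; exact f1 h2)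
           | (change Heis.ch 3 ω 1 ^ j = Heis.ch 3 ω 2 ^ j at h2
              rw [e1, e2, e3] at h2; exact f2 h2)
           | (change Heis.ch 3 ω 2 ^ j = Heis.ch 3 ω 1 ^ j at h2
              rw [e1, e2, e3] at h2; exact f2 h2.symm))
    have h4 : ∀ k, Heis.ch 3 ω k ^ j = 1 := by
      intro k
      show (ω ^ k.val) ^ j = 1
      rw [← pow_mul, mul_comm, pow_mul, h3, one_pow]
    have h5 : ∀ m, Heis.ch 3 ω m = ν := by
      intro m
      obtain ⟨k, hk⟩ := hne m
      rw [h1 m k hk, h4, mul_one]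
    exact h.zero_ne (h.ch_inj ((h5 0).trans (h5 1).symm))
  · left
    intro m k
    obtain ⟨l, hl⟩ := hne m
    -- all differences are multiples of `i`
    have h1 : B.repr ((u : R K V) (B m)) (l - i) ≠ 0 := (hiff m l).1 hl
    have h2 : B.repr ((u : R K V) (B m)) (l - i - i) ≠ 0 := (hiff m _).1 h1
    have h3 : ∀ (l i k : ZMod 3), i ≠ 0 → k = l ∨ k = l - i ∨ k = l - i - i := by decide
    rcases h3 l i k hi with rfl | rfl | rfl
    · exact hl
    · exact h1
    · exact h2

end co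

end Cfsg.Agent.H10.U3
end

-- part: H10/U3/Dat
section
/-!
# S5764, unitary `n = 3`: the set-up
-/

set_option autoImplicit false

namespace Cfsg.Agent.H10.U3

open Module Cfsg.Agent.H198.FC Cfsg.Agent.H710.FC

universe u v

variable {K : Type u} [Field K] {V : Type v} [AddCommGroup V] [Module K V]

/-- the set-up -/
structure Dat (b : Cl K V) (ω d α : K) (P Z : (R K V)ˣ) (B : Basis (ZMod 3) K V) : Prop where
  H : Heis 3 ω P Z
  hZ : ∀ i, (Z : R K V) (B i) = Heis.ch 3 ω i • B i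
  hP : ∀ i, (P : R K V) (B i) = B (i + 1)
  ω2 : ω ^ 2 + ω + 1 = 0
  h3 : (3 : K) ≠ 0
  τω : b.τ ω = ω ^ 2
  orth : ∀ i j, i ≠ j → b.B (B i) (B j) = 0
  nrm : ∀ i, b.B (B i) (B i) = d
  d0 : d ≠ 0
  dτ : b.τ d = d
  α1 : α * b.τ α = -1
  αf : ∀ σ : K ≃+* K, σ ω = ω → σ α = α

theorem sum3 (B : Basis (ZMod 3) K V) (v : V) : v = B.repr v 0 • B 0 + B.repr v 1 • B 1 + B.repr v 2 • B 2 := by
  have h1 := (B.sum_repr v).symm
  rw [show (Finset.univ : Finset (ZMod 3)) = {0, 1, 2} from rfl] at h1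
  rw [Finset.sum_insert (by decide), Finset.sum_insert (by decide), Finset.sum_singleton, ← add_assoc] at h1
  exact h1

theorem exists_dat [Finite K] [Module.Finite K V] {b : Cl K V} (hU : b.IsU) {S A : Subgroup (Equiv.Perm (R K V))}
    {r a : ℕ} (hn : finrank K V = 3) (hS : S ≤ RB b) (hA : C6Data S A r a) :
    ∃ (ω d α : K) (P Z : (R K V)ˣ) (B : Basis (ZMod 3) K V), cj K V P ∈ A ∧ cj K V Z ∈ A ∧ Dat b ω d α P Z B := by
  have hnt : Nontrivial V := Cfsg.Agent.H563.FC.nontrivial_of hA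
  have hSP : S ≤ RA K V := fun f hf => RP_le_RA (hS hf).1
  obtain ⟨ω, P, Z, hPA, hZA, hH⟩ := exists_heis hSP hA (by rw [hn]; exact Nat.prime_three) (by rw [hn]; norm_num)
  have hr3 : r = 3 := hH.rank.symm.trans hn
  subst hr3
  obtain ⟨B, hBZ, hBP⟩ := hH.exists_basis
  have hω3 : ω ^ 3 = 1 := hH.hω
  have hω1 : ω ≠ 1 := hH.prim.ne_one (by norm_num)
  have hω0 : ω ≠ 0 := hH.ω_ne
  have hω2 : ω ^ 2 + ω + 1 = 0 := by
    have h1 : (ω - 1) * (ω ^ 2 + ω + 1) = 0 := by linear_combination hω3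
    exact (mul_eq_zero.1 h1).resolve_left (sub_ne_zero.2 hω1)
  have h3 : (3 : K) ≠ 0 := by
    intro h
    have h1 : (ω - 1) * (ω - 1) = 0 := by linear_combination hω2 - ω * h
    exact hω1 (sub_eq_zero.1 (mul_self_eq_zero.1 h1))
  obtain ⟨w0, hw0⟩ := exists_ne (0 : V)
  obtain ⟨v0, hv0⟩ := Cfsg.Agent.H706.FC.exists_left (b := b) hw0
  obtain ⟨μ, hμ0, hμτ, hμ⟩ := simil hU (hS (hA.2.2.2.1 hZA)) ⟨_, _, hv0⟩
  obtain ⟨κ, hκ0, hκτ, hκ⟩ := simil hU (hS (hA.2.2.2.1 hPA)) ⟨_, _, hv0⟩
  have hωτ : ω * b.τ ω = 1 := by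
    have h1 : b.B ((Z : R K V) ((P : R K V) w0)) ((Z : R K V) ((P : R K V) v0)) =
        b.B (ω • (P : R K V) ((Z : R K V) w0)) (ω • (P : R K V) ((Z : R K V) v0)) := by
      rw [hH.ZP, hH.ZP]
    rw [hμ, hκ, b.smul_left, b.smul_right, hκ, hμ] at h1
    have h2 : μ * κ * b.B w0 v0 ≠ 0 := mul_ne_zero (mul_ne_zero hμ0 hκ0) hv0
    have h4 : (ω * b.τ ω - 1) * (μ * κ * b.B w0 v0) = 0 := by linear_combination -h1
    exact sub_eq_zero.1 ((mul_eq_zero.1 h4).resolve_right h2)
  have hτω : b.τ ω = ω ^ 2 := by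
    apply mul_left_cancel₀ hω0
    rw [hωτ]
    linear_combination -hω3
  have hne2 : ω ^ 2 ≠ ω := by
    intro h
    apply hω1
    have h1 : ω * (ω - 1) = 0 := by linear_combination h
    exact sub_eq_zero.1 ((mul_eq_zero.1 h1).resolve_left hω0)
  have hcube : ∀ m : K, m ^ 3 = 1 → b.τ m = m → m = 1 := by
    intro m h1 h2
    by_contra hm
    have h4 : (m - 1) * (m ^ 2 + m + 1) = 0 := by linear_combination h1
    have h5 := (mul_eq_zero.1 h4).resolve_left (sub_ne_zero.2 hm)
    have h6 : (m - ω) * (m - ω ^ 2) = 0 := by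
      linear_combination h5 - m * hω2 + (ω - 1) * hω2
    rcases mul_eq_zero.1 h6 with h7 | h7
    · rw [sub_eq_zero.1 h7, hτω] at h2
      exact hne2 h2
    · rw [sub_eq_zero.1 h7, map_pow, hτω] at h2
      apply hne2
      rw [← h2]
      linear_combination ω * hω3
  have hpow3 : ∀ {X : (R K V)ˣ} {m : K}, (X : R K V) ^ 3 = 1 → (∀ v w, b.B ((X : R K V) v) ((X : R K V) w) = m * b.B v w) →
      m ^ 3 = 1 := by
    intro X m h1 h2
    have h4 : ∀ v, (X : R K V) ((X : R K V) ((X : R K V) v)) = v := by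
      intro v
      have := LinearMap.congr_fun h1 v
      rw [pow_succ, pow_succ, pow_one, Module.End.mul_apply, Module.End.mul_apply] at this
      exact this
    have h5 := h2 ((X : R K V) ((X : R K V) w0)) ((X : R K V) ((X : R K V) v0))
    rw [h4, h4, h2, h2] at h5
    have h6 : (m ^ 3 - 1) * b.B w0 v0 = 0 := by linear_combination -h5
    exact sub_eq_zero.1 ((mul_eq_zero.1 h6).resolve_right hv0)
  have hμ1 : μ = 1 := hcube μ (hpow3 hH.Zr' hμ) hμτ
  have hκ1 : κ = 1 := hcube κ (hpow3 hH.Pr' hκ) hκτ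
  subst hμ1
  subst hκ1
  have hch : ∀ i, b.τ (Heis.ch 3 ω i) * Heis.ch 3 ω i = 1 := by
    intro i
    show b.τ (ω ^ i.val) * ω ^ i.val = 1
    rw [map_pow, ← mul_pow, mul_comm, hωτ, one_pow]
  have horth : ∀ i j, i ≠ j → b.B (B i) (B j) = 0 := by
    intro i j hij
    have h1 := hμ (B i) (B j)
    rw [hBZ, hBZ, b.smul_left, b.smul_right, one_mul] at h1
    by_contra hne
    have h4 : (Heis.ch 3 ω i * b.τ (Heis.ch 3 ω j) - 1) * b.B (B i) (B j) = 0 := by linear_combination h1
    have h5 := sub_eq_zero.1 ((mul_eq_zero.1 h4).resolve_right hne)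
    have h6 := hch j
    have h7 : b.τ (Heis.ch 3 ω j) ≠ 0 := by
      intro h0
      rw [h0, zero_mul] at h6
      exact zero_ne_one h6
    apply hij
    apply hH.ch_inj
    apply mul_right_cancel₀ h7
    rw [h5, mul_comm]
    exact h6.symm
  have hnrm : ∀ i, b.B (B i) (B i) = b.B (B 0) (B 0) := by
    have hs : ∀ i, b.B (B (i + 1)) (B (i + 1)) = b.B (B i) (B i) := by
      intro i
      rw [← hBP, hκ, one_mul]
    intro i
    have h0 : i = 0 ∨ i = 0 + 1 ∨ i = 0 + 1 + 1 := by revert i; decide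
    rcases h0 with h | h | h
    · rw [h]
    · rw [h, hs]
    · rw [h, hs, hs]
  have hd0 : b.B (B 0) (B 0) ≠ 0 := by
    intro h0
    apply B.ne_zero 0
    apply b.nondeg
    intro w
    rw [sum3 B w, b.add_right, b.add_right, b.smul_right, b.smul_right, b.smul_right, h0,
      horth 0 1 (by decide), horth 0 2 (by decide)]
    ring
  obtain ⟨α, hα, hαf⟩ := exists_alpha hω2 h3 hτω
  exact ⟨ω, b.B (B 0) (B 0), α, P, Z, B, hPA, hZA, hH, hBZ, hBP, hω2, h3, hτω, horth, hnrm, hd0, (hU.2 _ _).symm, hα, hαf⟩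

end Cfsg.Agent.H10.U3
end

-- part: H10/U3/Main
section
/-!
# S5764, unitary `n = 3` (helper10): `StmtBC6On true (fun n => n = 3)`
-/

set_option autoImplicit false

namespace Cfsg.Agent.H10.U3

open Module Cfsg.Agent.H198.FC Cfsg.Agent.H710.FC Cfsg.Agent.H563.FC

universe u v

variable {K : Type u} [Field K] {V : Type v} [AddCommGroup V] [Module K V]

/-- the isotropic vector -/
noncomputable def wv (α : K) (B : Basis (ZMod 3) K V) : V := B 0 + α • B 1

variable {b : Cl K V} {ω d α : K} {P Z : (R K V)ˣ} {B : Basis (ZMod 3) K V}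

theorem wv_ne : wv α B ≠ 0 := by
  intro h
  have h1 := congrArg (fun v => B.repr v 0) h
  simp only [wv, map_add, map_smul, Basis.repr_self, Finsupp.add_apply, Finsupp.smul_apply, map_zero,
    Finsupp.single_eq_same, Finsupp.zero_apply] at h1
  rw [Finsupp.single_eq_of_ne (by decide : (0 : ZMod 3) ≠ 1), smul_zero, add_zero] at h1
  exact one_ne_zero h1

theorem Dat.B0w (D : Dat b ω d α P Z B) : b.B (B 0) (wv α B) = d := by
  rw [wv, b.add_right, b.smul_right, D.nrm, D.orth 0 1 (by decide), mul_zero, add_zero]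

theorem Dat.B1w (D : Dat b ω d α P Z B) : b.B (B 1) (wv α B) = b.τ α * d := by
  rw [wv, b.add_right, b.smul_right, D.nrm, D.orth 1 0 (by decide), zero_add]

theorem Dat.B2w (D : Dat b ω d α P Z B) : b.B (B 2) (wv α B) = 0 := by
  rw [wv, b.add_right, b.smul_right, D.orth 2 0 (by decide), D.orth 2 1 (by decide), mul_zero, add_zero]

theorem Dat.ww (D : Dat b ω d α P Z B) : b.B (wv α B) (wv α B) = 0 := by
  have h1 : b.B (wv α B) (wv α B) = b.B (B 0) (wv α B) + α * b.B (B 1) (wv α B) := by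
    conv_lhs => rw [wv, b.add_left, b.smul_left]
    rfl
  rw [h1, D.B0w, D.B1w, ← mul_assoc, D.α1]
  ring

theorem Dat.α0 (D : Dat b ω d α P Z B) : α ≠ 0 := by
  intro h
  have := D.α1
  rw [h, zero_mul] at this
  exact neg_ne_zero.2 one_ne_zero this.symm

theorem Dat.tα0 (D : Dat b ω d α P Z B) : b.τ α ≠ 0 := by
  intro h
  have := D.α1
  rw [h, mul_zero] at this
  exact neg_ne_zero.2 one_ne_zero this.symm

theorem Dat.lift' [Module.Finite K V] [Nontrivial V] (D : Dat b ω d α P Z B) {A : Subgroup (Equiv.Perm (R K V))}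
    (hcomm : ∀ f ∈ A, ∀ g ∈ A, f * g = g * f) (hP : cj K V P ∈ A) (hZ : cj K V Z ∈ A) {y : (R K V)ˣ}
    (hy : cj K V y ∈ A) : ∃ (i j : ℕ) (ν : K), ν ≠ 0 ∧ (y : R K V) = ν • ((P : R K V) ^ i * (Z : R K V) ^ j) := by
  obtain ⟨c₁, h1⟩ := exists_comm (hcomm _ hy _ hZ)
  obtain ⟨c₂, h2⟩ := exists_comm (hcomm _ hy _ hP)
  obtain ⟨i, j, hij⟩ := D.H.lift h1 h2
  obtain ⟨ν, hν⟩ := cj_eq_cj hij
  rw [Units.val_mul, Units.val_pow_eq_pow_val, Units.val_pow_eq_pow_val] at hν
  refine ⟨i, j, ν, ?_, hν⟩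
  rintro rfl
  rw [zero_smul] at hν
  exact y.ne_zero hν

/-- no eigenvector -/
theorem Dat.eig [Module.Finite K V] [Nontrivial V] (D : Dat b ω d α P Z B) {A : Subgroup (Equiv.Perm (R K V))}
    (hcomm : ∀ f ∈ A, ∀ g ∈ A, f * g = g * f) (hP : cj K V P ∈ A) (hZ : cj K V Z ∈ A) {y : (R K V)ˣ}
    (hy : cj K V y ∈ A) {l : K} (hl : (y : R K V) (wv α B) = l • wv α B) : Scal y := by
  obtain ⟨i, j, ν, hν, hyν⟩ := D.lift' hcomm hP hZ hy
  have h1 : (y : R K V) (wv α B) = ν • (B (0 + i) + (α * ω ^ j) • B (1 + i)) := by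
    have e0 : Heis.ch 3 ω 0 = 1 := D.H.ch_zero
    have e1 : Heis.ch 3 ω 1 = ω := D.H.ch_one
    rw [hyν, LinearMap.smul_apply, wv, map_add, map_smul, PZ_apply D.hZ D.hP, PZ_apply D.hZ D.hP, e0, e1, one_pow,
      one_smul, smul_smul]
  rw [h1] at hl
  have hαω : α * ω ^ j ≠ 0 := mul_ne_zero D.α0 (pow_ne_zero _ D.H.ω_ne)
  have hc : ∀ k, B.repr (ν • (B (0 + i) + (α * ω ^ j) • B (1 + i))) k = B.repr (l • wv α B) k := fun k => by rw [hl]
  simp only [map_smul, map_add, Basis.repr_self, Finsupp.smul_apply, Finsupp.add_apply, smul_eq_mul, wv] at hc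
  have hi : (i : ZMod 3) = 0 ∨ (i : ZMod 3) = 1 ∨ (i : ZMod 3) = 2 := by
    generalize (i : ZMod 3) = x
    revert x
    decide
  have s01 : (0 : ZMod 3) ≠ 1 := by decide
  have s02 : (0 : ZMod 3) ≠ 2 := by decide
  have s12 : (1 : ZMod 3) ≠ 2 := by decide
  rcases hi with hi | hi | hi
  · rw [hi, add_zero, add_zero] at hc
    have c0 := hc 0
    have c1 := hc 1
    rw [Finsupp.single_eq_same, Finsupp.single_eq_of_ne s01] at c0
    rw [Finsupp.single_eq_same, Finsupp.single_eq_of_ne s01.symm] at c1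
    have h5 : ν = l := by linear_combination c0
    have h6 : ω ^ j = 1 := by
      have h7 : (ν * α) * (ω ^ j - 1) = 0 := by rw [← h5] at c1; linear_combination c1
      exact sub_eq_zero.1 ((mul_eq_zero.1 h7).resolve_left (mul_ne_zero hν D.α0))
    refine ⟨ν, ?_⟩
    rw [hyν]
    congr 1
    refine B.ext fun m => ?_
    rw [PZ_apply D.hZ D.hP, hi, add_zero]
    have h8 : Heis.ch 3 ω m ^ j = 1 := by
      show (ω ^ m.val) ^ j = 1
      rw [← pow_mul, mul_comm, pow_mul, h6, one_pow]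
    rw [h8, one_smul]
    rfl
  · exfalso
    rw [hi] at hc
    have c2 := hc 2
    rw [show (0 : ZMod 3) + 1 = 1 by decide, show (1 : ZMod 3) + 1 = 2 by decide, Finsupp.single_eq_same,
      Finsupp.single_eq_of_ne s12.symm, Finsupp.single_eq_of_ne s02.symm] at c2
    have h5 : ν * (α * ω ^ j) = 0 := by linear_combination c2
    exact mul_ne_zero hν hαω h5
  · exfalso
    rw [hi] at hc
    have c2 := hc 2
    rw [show (0 : ZMod 3) + 2 = 2 by decide, show (1 : ZMod 3) + 2 = 0 by decide, Finsupp.single_eq_same,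
      Finsupp.single_eq_of_ne s12.symm, Finsupp.single_eq_of_ne s02.symm] at c2
    have h5 : ν = 0 := by linear_combination c2
    exact hν h5

/-- the image of `Z` under an element centralizing `A` -/
theorem fZ {f : Equiv.Perm (R K V)} (hf : f ∈ RP K V) {X : (R K V)ˣ} (h : f * cj K V X = cj K V X * f) :
    ∃ ζ : K, f (X : R K V) = ζ • (X : R K V) := by
  have h1 := Cfsg.Agent.H706.FC.f_cj hf X
  rw [h] at h1
  exact cj_eq_cj (mul_right_cancel h1).symm

theorem sig_ω [Nontrivial V] (D : Dat b ω d α P Z B) {f : Equiv.Perm (R K V)} (hf : f ∈ RP K V) {σ : K ≃+* K}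
    (hσ : HasSig f σ) (hZ : f * cj K V Z = cj K V Z * f) (hP : f * cj K V P = cj K V P * f) : σ ω = ω := by
  obtain ⟨ζ, hζ⟩ := fZ hf hZ
  obtain ⟨ξ, hξ⟩ := fZ hf hP
  have hζ0 : ζ ≠ 0 := by
    rintro rfl
    rw [zero_smul] at hζ
    exact (Cfsg.Agent.H706.FC.fu hf Z).ne_zero hζ
  have hξ0 : ξ ≠ 0 := by
    rintro rfl
    rw [zero_smul] at hξ
    exact (Cfsg.Agent.H706.FC.fu hf P).ne_zero hξ
  have h1 := congrArg f D.H.comm
  rw [hσ.smul hf, hf.2, hf.2, hζ, hξ, smul_mul_smul_comm, smul_mul_smul_comm, D.H.comm, smul_smul, smul_smul] at h1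
  have h2 : ((P : R K V) * Z) ≠ 0 := (P * Z).ne_zero
  have h3 : (ζ * ξ * ω - σ ω * (ξ * ζ)) • ((P : R K V) * Z) = 0 := by rw [sub_smul, h1, sub_self]
  have h4 := (smul_eq_zero.1 h3).resolve_right h2
  have h5 : (ζ * ξ) * (σ ω - ω) = 0 := by linear_combination -h4
  exact sub_eq_zero.1 ((mul_eq_zero.1 h5).resolve_left (mul_ne_zero hζ0 hξ0))

/-- **the main step** -/
theorem Dat.main [Finite K] [Module.Finite K V] [Nontrivial V] (D : Dat b ω d α P Z B) {f : Equiv.Perm (R K V)}
    (hf : f ∈ RP K V) (hZ : f * cj K V Z = cj K V Z * f) (hP : f * cj K V P = cj K V P * f) {c : K} (hc0 : c ≠ 0)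
    (hc1 : c * d ≠ 1) (hc2 : c * d ≠ -1) {u : (R K V)ˣ}
    (hu : (u : R K V) = (1 + tw b c (wv α B)) * (1 - f (tw b c (wv α B)))) {i j : ℕ} {ν : K} (hν : ν ≠ 0)
    (huZ : (u : R K V) * Z = (ν • ((P : R K V) ^ i * (Z : R K V) ^ j)) * u) :
    f (tw b c (wv α B)) = tw b c (wv α B) := by
  obtain ⟨σ, hσ⟩ := exists_sig hf
  obtain ⟨F, hadd, hsm, hF⟩ := hσ.semi hf
  have hσω : σ ω = ω := sig_ω D hf hσ hZ hP
  have hσα : σ α = α := D.αf σ hσω
  have hτω : b.τ ω ≠ ω := by
    rw [D.τω]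
    intro h
    have h1 : ω * (ω - 1) = 0 := by linear_combination h
    exact D.H.prim.ne_one (by norm_num) (sub_eq_zero.1 ((mul_eq_zero.1 h1).resolve_left D.H.ω_ne))
  have hsq : ∀ y : K, σ (σ y) = y → σ y = y := fun y hy => fix_of_sq D.ω2 hσω hτω b.invol hy
  have hστα : σ (b.τ α) = b.τ α := by
    have h1 := congrArg σ D.α1
    rw [map_mul, hσα, map_neg, map_one, ← D.α1] at h1
    exact mul_left_cancel₀ D.α0 h1
  obtain ⟨ζ, hζ⟩ := fZ hf hZ
  obtain ⟨ξ, hξ⟩ := fZ hf hP
  have hζ0 : ζ ≠ 0 := by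
    rintro rfl
    rw [zero_smul] at hζ
    exact (Cfsg.Agent.H706.FC.fu hf Z).ne_zero hζ
  have hξ3 : ξ ^ 3 = 1 := by
    have h1 : f ((P : R K V) ^ 3) = (f P) ^ 3 := by
      rw [pow_succ, pow_succ, pow_one, hf.2, hf.2, pow_succ, pow_succ, pow_one]
    rw [D.H.Pr', Cfsg.Agent.H706.FC.RP_map_one hf, hξ, smul_pow, D.H.Pr'] at h1
    have h2 : (1 - ξ ^ 3) • (1 : R K V) = 0 := by rw [sub_smul, one_smul, ← h1, sub_self]
    exact (sub_eq_zero.1 ((smul_eq_zero.1 h2).resolve_right one_ne_zero)).symm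
  have hξ0 : ξ ≠ 0 := by
    rintro rfl
    rw [zero_pow (by norm_num)] at hξ3
    exact zero_ne_one hξ3
  -- `F` on the basis
  have hF0 : F (B 0) ≠ 0 := by
    intro h
    have h0 : F 0 = 0 := by
      have := hadd 0 0
      rw [add_zero] at this
      simpa using this
    exact B.ne_zero 0 (F.injective (h.trans h0.symm))
  obtain ⟨m, t, -, ht, hm⟩ := D.H.eigvec D.hZ hF0 (c := ζ⁻¹) (by
    have h1 := hF Z (B 0)
    rw [hζ, D.hZ, D.H.ch_zero, one_smul, LinearMap.smul_apply] at h1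
    rw [← h1, smul_smul, inv_mul_cancel₀ hζ0, one_smul, h1])
  have hstep : ∀ k, F (B (k + 1)) = ξ • (P : R K V) (F (B k)) := by
    intro k
    rw [← D.hP, ← hF, hξ, LinearMap.smul_apply]
  have hm1 : F (B 1) = (ξ * t) • B (m + 1) := by
    have h1 := hstep 0
    rw [zero_add, hm, map_smul, D.hP, smul_smul] at h1
    exact h1
  have hm2 : F (B 2) = (ξ * (ξ * t)) • B (m + 2) := by
    have h1 := hstep 1
    rw [show (1 : ZMod 3) + 1 = 2 by decide, hm1, map_smul, D.hP, smul_smul, add_assoc,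
      show (1 : ZMod 3) + 1 = 2 by decide] at h1
    exact h1
  -- `N`
  set w := wv α B with hw
  set N := tw b c w with hN
  set y := c * d with hy
  have hy0 : y ≠ 0 := mul_ne_zero hc0 D.d0
  have hN0 : N (B 0) = y • w := by
    rw [hN, tw_apply, D.B0w]
  have hN1 : N (B 1) = (y * b.τ α) • w := by
    rw [hN, tw_apply, D.B1w]
    congr 1
    rw [hy]
    ring
  have hN2 : N (B 2) = 0 := by
    rw [hN, tw_apply, D.B2w, mul_zero, zero_smul]
  have hFw : F w = t • (B m + (α * ξ) • B (m + 1)) := by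
    rw [hw, wv, hadd, hsm, hm, hm1, hσα, smul_add, smul_smul, smul_smul]
    congr 2
    ring
  set W' := B m + (α * ξ) • B (m + 1) with hW'
  have hσy0 : σ y ≠ 0 := by simpa using hy0
  have hM0 : f N (B m) = σ y • W' := by
    have h1 := hF N (B 0)
    rw [hN0, hsm, hFw, hm, map_smul, smul_comm] at h1
    exact smul_right_injective V ht h1
  have hM1 : f N (B (m + 1)) = (ξ ^ 2 * σ y * b.τ α) • W' := by
    have h1 := hF N (B 1)
    rw [hN1, hsm, hFw, hm1, map_smul, map_mul, hστα, smul_smul] at h1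
    have h2 : ξ * t ≠ 0 := mul_ne_zero hξ0 ht
    refine smul_right_injective V h2 ?_
    show (ξ * t) • f N (B (m + 1)) = (ξ * t) • _
    rw [h1, smul_smul]
    congr 1
    linear_combination (-(t * σ y * b.τ α)) * hξ3
  have hM2 : f N (B (m + 2)) = 0 := by
    have h1 := hF N (B 2)
    rw [hN2, hm2, map_smul] at h1
    have h0 : F 0 = 0 := by
      have := hadd 0 0
      rw [add_zero] at this
      simpa using this
    rw [h0] at h1
    exact (smul_eq_zero.1 h1).resolve_left (mul_ne_zero hξ0 (mul_ne_zero hξ0 ht))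
  have huv : ∀ v, (u : R K V) v = (v - f N v) + N (v - f N v) := by
    intro v
    rw [hu]
    rfl
  have s01 : (0 : ZMod 3) ≠ 1 := by decide
  have s02 : (0 : ZMod 3) ≠ 2 := by decide
  have s12 : (1 : ZMod 3) ≠ 2 := by decide
  have hdic := dicho D.H D.hZ D.hP hν huZ
  have hw' : w = B 0 + α • B 1 := rfl
  have hmc : ∀ m : ZMod 3, m = 0 ∨ m = 1 ∨ m = 2 := by decide
  rcases hmc m with rfl | rfl | rfl
  · -- `m = 0`
    rw [zero_add] at hM1 hM2
    rw [zero_add] at hW'
    -- `u` on the basis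
    have hu2 : (u : R K V) (B 2) = B 2 := by
      rw [huv, hM2, sub_zero, hN2, add_zero]
    have hu0 : (u : R K V) (B 0) = (1 - σ y + (1 - σ y) * y + σ y * y * ξ) • B 0 +
        (α * (-(σ y * ξ) + (1 - σ y) * y + σ y * y * ξ)) • B 1 := by
      have e : B 0 - f N (B 0) = (1 - σ y) • B 0 + (-(σ y * α * ξ)) • B 1 := by
        rw [hM0, hW']
        module
      rw [huv, e, map_add, map_smul, map_smul, hN0, hN1, hw']
      have hα1 := D.α1
      have e2 : (-(σ y * α * ξ)) * (y * b.τ α) = σ y * y * ξ := by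
        linear_combination (-(σ y * ξ * y)) * hα1
      rw [smul_smul, smul_smul, e2]
      module
    have hu1 : (u : R K V) (B 1) = (b.τ α * (-(ξ ^ 2 * σ y) + y * (-(ξ ^ 2 * σ y) + 1 + σ y))) • B 0 +
        (1 + σ y - y * (-(ξ ^ 2 * σ y) + 1 + σ y)) • B 1 := by
      have hα1 := D.α1
      have e : B 1 - f N (B 1) = (-(ξ ^ 2 * σ y * b.τ α)) • B 0 + (1 + σ y) • B 1 := by
        rw [hM1, hW']
        have e3 : (ξ ^ 2 * σ y * b.τ α) * (α * ξ) = - σ y := by
          linear_combination (ξ ^ 3 * σ y) * hα1 - σ y * hξ3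
        rw [smul_add, smul_smul, e3]
        module
      rw [huv, e, map_add, map_smul, map_smul, hN0, hN1, hw']
      have e2 : (-(ξ ^ 2 * σ y * b.τ α)) * y + (1 + σ y) * (y * b.τ α) =
          b.τ α * (y * (-(ξ ^ 2 * σ y) + 1 + σ y)) := by ring
      rw [smul_smul, smul_smul, ← add_smul, e2]
      have e4 : (b.τ α * (y * (-(ξ ^ 2 * σ y) + 1 + σ y))) * α = - (y * (-(ξ ^ 2 * σ y) + 1 + σ y)) := by
        linear_combination (y * (-(ξ ^ 2 * σ y) + 1 + σ y)) * hα1
      rw [smul_add, smul_smul, e4]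
      module
    set M00 := 1 - σ y + (1 - σ y) * y + σ y * y * ξ with hM00
    set m10 := -(σ y * ξ) + (1 - σ y) * y + σ y * y * ξ with hm10
    set m01 := -(ξ ^ 2 * σ y) + y * (-(ξ ^ 2 * σ y) + 1 + σ y) with hm01
    set M11 := 1 + σ y - y * (-(ξ ^ 2 * σ y) + 1 + σ y) with hM11
    have hdet : M00 * M11 + m10 * m01 = 1 := by
      rw [hM00, hM11, hm10, hm01]
      linear_combination (σ y ^ 2) * hξ3
    have hmono : ∀ m k l, B.repr ((u : R K V) (B m)) k ≠ 0 → B.repr ((u : R K V) (B m)) l ≠ 0 → k = l := by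
      rcases hdic with h | h
      · exfalso
        apply h 2 0
        rw [hu2, Basis.repr_self, Finsupp.single_eq_of_ne s02]
      · exact h
    have hA0 : M00 = 0 ∨ m10 = 0 := by
      by_contra hcon
      rw [not_or] at hcon
      refine s01 (hmono 0 0 1 ?_ ?_)
      · rw [hu0, map_add, map_smul, map_smul, Basis.repr_self, Basis.repr_self, Finsupp.add_apply, Finsupp.smul_apply,
          Finsupp.smul_apply, Finsupp.single_eq_same, Finsupp.single_eq_of_ne s01, smul_zero, add_zero, smul_eq_mul,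
          mul_one]
        exact hcon.1
      · rw [hu0, map_add, map_smul, map_smul, Basis.repr_self, Basis.repr_self, Finsupp.add_apply, Finsupp.smul_apply,
          Finsupp.smul_apply, Finsupp.single_eq_same, Finsupp.single_eq_of_ne s01.symm, smul_zero, zero_add,
          smul_eq_mul, mul_one]
        exact mul_ne_zero D.α0 hcon.2
    have hA1 : M11 = 0 ∨ m01 = 0 := by
      by_contra hcon
      rw [not_or] at hcon
      refine s01 (hmono 1 0 1 ?_ ?_)
      · rw [hu1, map_add, map_smul, map_smul, Basis.repr_self, Basis.repr_self, Finsupp.add_apply, Finsupp.smul_apply,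
          Finsupp.smul_apply, Finsupp.single_eq_same, Finsupp.single_eq_of_ne s01, smul_zero, add_zero, smul_eq_mul,
          mul_one]
        exact mul_ne_zero D.tα0 hcon.2
      · rw [hu1, map_add, map_smul, map_smul, Basis.repr_self, Basis.repr_self, Finsupp.add_apply, Finsupp.smul_apply,
          Finsupp.smul_apply, Finsupp.single_eq_same, Finsupp.single_eq_of_ne s01.symm, smul_zero, zero_add,
          smul_eq_mul, mul_one]
        exact hcon.1
    -- the conclusion from `σ y = y`, `ξ = 1`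
    have hfin : σ y = y → ξ = 1 → f N = N := by
      intro h1 h2
      refine B.ext fun k => ?_
      have hk : k = 0 ∨ k = 1 ∨ k = 2 := by
        revert k
        decide
      rcases hk with rfl | rfl | rfl
      · rw [hM0, hN0, h1, hW', h2, mul_one, hw']
      · rw [hM1, hN1, h1, hW', h2, mul_one, hw', one_pow, one_mul]
      · rw [hM2, hN2]
    by_cases h00 : M00 = 0
    · -- antidiagonal
      exfalso
      have h11 : M11 = 0 := by
        rcases hA1 with h | h
        · exact h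
        · rw [h00, h] at hdet
          simp at hdet
      rw [hM00] at h00
      rw [hM11] at h11
      by_cases hξ1 : ξ = 1
      · rw [hξ1] at h00 h11
        have h2 : (2 : K) = 0 := by linear_combination h00 + h11
        have h4 : σ y = 1 + y := by linear_combination -h00
        have h5 := hsq y (by rw [h4, map_add, map_one, h4]; linear_combination h2)
        rw [h4] at h5
        have h6 : (1 : K) = 0 := by linear_combination h5
        exact one_ne_zero h6
      · have hξ2 : ξ ^ 2 + ξ + 1 = 0 := by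
          have h4 : (ξ - 1) * (ξ ^ 2 + ξ + 1) = 0 := by linear_combination hξ3
          exact (mul_eq_zero.1 h4).resolve_left (sub_ne_zero.2 hξ1)
        have h4 : 3 * (y * σ y) = 2 := by linear_combination -h00 - h11 + (y * σ y) * hξ2
        have h5 : σ (σ y) = y := by
          have h6 := congrArg σ h4
          rw [map_mul, map_mul, map_ofNat, map_ofNat, ← h4] at h6
          have h7 := mul_left_cancel₀ D.h3 h6
          have h8 : σ y * (σ (σ y) - y) = 0 := by linear_combination h7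
          exact sub_eq_zero.1 ((mul_eq_zero.1 h8).resolve_left hσy0)
        have h6 := hsq y h5
        rw [h6] at h00 h11
        have h7 : (y * y) * (ξ * (1 - ξ)) = 0 := by linear_combination h00 - h11
        rcases mul_eq_zero.1 h7 with h8 | h8
        · exact hy0 (mul_self_eq_zero.1 h8)
        · rcases mul_eq_zero.1 h8 with h9 | h9
          · exact hξ0 h9
          · exact hξ1 (sub_eq_zero.1 h9).symm
    · -- diagonal
      have h10 : m10 = 0 := hA0.resolve_left h00
      have h01 : m01 = 0 := by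
        rcases hA1 with h | h
        · rw [h, h10] at hdet
          simp at hdet
        · exact h
      rw [hm10] at h10
      rw [hm01] at h01
      have h4 : (1 - ξ) * (y + σ y) = 0 := by
        linear_combination h10 - ξ * h01 - (σ y + y * σ y) * hξ3
      rcases mul_eq_zero.1 h4 with h5 | h5
      · have hξ1 : ξ = 1 := (sub_eq_zero.1 h5).symm
        refine hfin ?_ hξ1
        rw [hξ1] at h10
        linear_combination -h10
      · have h6 : σ y = -y := by linear_combination h5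
        have h7 := hsq y (by rw [h6, map_neg, h6, neg_neg])
        rw [h7] at h10
        have h8 : (1 - ξ) * (y * (1 - y)) = 0 := by linear_combination h10
        rcases mul_eq_zero.1 h8 with h9 | h9
        · exact hfin h7 (sub_eq_zero.1 h9).symm
        · rcases mul_eq_zero.1 h9 with h9 | h9
          · exact absurd h9 hy0
          · exact absurd (sub_eq_zero.1 h9).symm hc1
  · -- `m = 1`
    exfalso
    rw [show (1 : ZMod 3) + 2 = 0 by decide] at hM2
    have hu0 : (u : R K V) (B 0) = (1 + y) • B 0 + (y * α) • B 1 := by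
      rw [huv, hM2, sub_zero, hN0, hw']
      module
    rcases hdic with h | h
    · apply h 0 2
      rw [hu0, map_add, map_smul, map_smul, Basis.repr_self, Basis.repr_self, Finsupp.add_apply, Finsupp.smul_apply,
        Finsupp.smul_apply, Finsupp.single_eq_of_ne s02.symm, Finsupp.single_eq_of_ne s12.symm, smul_zero, smul_zero,
        add_zero]
    · refine s01 (h 0 0 1 ?_ ?_)
      · rw [hu0, map_add, map_smul, map_smul, Basis.repr_self, Basis.repr_self, Finsupp.add_apply, Finsupp.smul_apply,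
          Finsupp.smul_apply, Finsupp.single_eq_same, Finsupp.single_eq_of_ne s01, smul_zero, add_zero, smul_eq_mul,
          mul_one]
        intro h0
        exact hc2 (by linear_combination h0)
      · rw [hu0, map_add, map_smul, map_smul, Basis.repr_self, Basis.repr_self, Finsupp.add_apply, Finsupp.smul_apply,
          Finsupp.smul_apply, Finsupp.single_eq_same, Finsupp.single_eq_of_ne s01.symm, smul_zero, zero_add,
          smul_eq_mul, mul_one]
        exact mul_ne_zero hy0 D.α0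
  · -- `m = 2`
    exfalso
    rw [show (2 : ZMod 3) + 2 = 1 by decide] at hM2
    have hu1 : (u : R K V) (B 1) = (y * b.τ α) • B 0 + (1 - y) • B 1 := by
      have hα1 := D.α1
      rw [huv, hM2, sub_zero, hN1, hw', smul_add, smul_smul]
      have e : y * b.τ α * α = - y := by linear_combination y * hα1
      rw [e]
      module
    rcases hdic with h | h
    · apply h 1 2
      rw [hu1, map_add, map_smul, map_smul, Basis.repr_self, Basis.repr_self, Finsupp.add_apply, Finsupp.smul_apply,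
        Finsupp.smul_apply, Finsupp.single_eq_of_ne s02.symm, Finsupp.single_eq_of_ne s12.symm, smul_zero, smul_zero,
        add_zero]
    · refine s01 (h 1 0 1 ?_ ?_)
      · rw [hu1, map_add, map_smul, map_smul, Basis.repr_self, Basis.repr_self, Finsupp.add_apply, Finsupp.smul_apply,
          Finsupp.smul_apply, Finsupp.single_eq_same, Finsupp.single_eq_of_ne s01, smul_zero, add_zero, smul_eq_mul,
          mul_one]
        exact mul_ne_zero hy0 D.tα0
      · rw [hu1, map_add, map_smul, map_smul, Basis.repr_self, Basis.repr_self, Finsupp.add_apply, Finsupp.smul_apply,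
          Finsupp.smul_apply, Finsupp.single_eq_same, Finsupp.single_eq_of_ne s01.symm, smul_zero, zero_add,
          smul_eq_mul, mul_one]
        intro h0
        exact hc1 (by linear_combination -h0)

end Cfsg.Agent.H10.U3
end

-- part: H10/U3/Fin
section
/-!
# S5764, unitary `n = 3` (helper10): `stmtBC6_three : StmtBC6On true (fun n => n = 3)`
-/

set_option autoImplicit false

namespace Cfsg.Agent.H10.U3

open Module Cfsg.Agent.H198.FC Cfsg.Agent.H710.FC Cfsg.Agent.H563.FC Cfsg.Agent.H786.FC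

universe u v

/-- **unitary groups in dimension 3**, extraspecial type normalizers -/
theorem stmtBC6_three : StmtBC6On.{u, v} true (fun n => n = 3) := by
  intro K _ _ V _ _ _ b hk hBig hn S hS hsol A r a hA
  have hn' : finrank K V = 3 := hn
  have hU : b.IsU := hk.1 rfl
  have hnt : Nontrivial V := nontrivial_of hA
  obtain ⟨ω, d, α, P, Z, B, hPA, hZA, D⟩ := exists_dat hU hn' hS hA
  obtain ⟨ε, hε⟩ := hU.1
  have hτω : b.τ ω ≠ ω := by
    rw [D.τω]
    intro h
    have h1 : ω * (ω - 1) = 0 := by linear_combination h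
    exact D.H.prim.ne_one (by norm_num) (sub_eq_zero.1 ((mul_eq_zero.1 h1).resolve_left D.H.ω_ne))
  -- the fixed field has at least 4 elements
  have hK4 : 4 ≤ Nat.card (K0 b.τ) := by
    have hKq : Nat.card K = Nat.card (K0 b.τ) ^ 2 := card_K b.invol hε
    have h2 : 2 ≤ Nat.card (K0 b.τ) := Finite.one_lt_card
    have hne2 : Nat.card (K0 b.τ) ≠ 2 := by
      intro h
      rw [h] at hKq
      rcases hBig with h' | h'
      · exact h'.2.2 hn' hKq
      · exact not_isSp_of_isU hU h'.1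
    have hne3 : Nat.card (K0 b.τ) ≠ 3 := by
      intro h
      apply D.h3
      have := Fintype.ofFinite (K0 b.τ)
      have h4 : ((Fintype.card (K0 b.τ) : ℕ) : K0 b.τ) = 0 := Nat.cast_card_eq_zero _
      rw [← Nat.card_eq_fintype_card, h] at h4
      have h5 := congrArg Subtype.val h4
      push_cast at h5
      exact h5
    omega
  have hcomm := hA.2.2.2.2.2.2.2.1
  have hnorm := hA.2.2.2.2.2.2.2.2.2.1
  refine five_of_good' hS hA hsol (w := wv α B) wv_ne D.ww (fun y hy hl => ?_) (fun f hf hfc hs _ k => ?_) d⁻¹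
    (Or.inr hK4) (fun c hN hc f hf hfc hfx => ?_)
  · obtain ⟨l, hl⟩ := hl
    exact D.eig hcomm hPA hZA hy hl
  · exfalso
    exact hτω (sig_ω D (hS hf).1 hs (hfc _ hZA) (hfc _ hPA))
  · have hfP := (hS hf).1
    -- the scalar `c`
    have hadj := hN.adj (B 0) (B 0)
    have hwB : b.B (wv α B) (B 0) = d := by
      rw [hU.2, D.B0w, D.dτ]
    rw [LinearMap.neg_apply, Cfsg.Agent.H706.FC.B_neg_right, tw_apply, D.B0w, b.smul_left, b.smul_right, hwB, D.B0w,
      map_mul, D.dτ] at hadj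
    have hτc : b.τ c = -c := by
      have h1 : (b.τ c + c) * (d * d) = 0 := by linear_combination hadj
      exact eq_neg_of_add_eq_zero_left ((mul_eq_zero.1 h1).resolve_right (mul_ne_zero D.d0 D.d0))
    have hc0 : c ≠ 0 := by
      rintro rfl
      apply hN.ne_zero
      ext v
      rw [tw_apply, zero_mul, zero_smul]
      rfl
    have hc1 : c * d ≠ 1 := by
      intro h
      exact hc (eq_inv_of_mul_eq_one_left h)
    have hc2 : c * d ≠ -1 := by
      intro h
      have h1 := congrArg b.τ h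
      rw [map_mul, hτc, D.dτ, map_neg, map_one] at h1
      have h2 : (2 : K) = 0 := by linear_combination h + h1
      exact hc1 (by linear_combination h - h2)
    -- the normalizing element
    have huS := Cfsg.Agent.H706.FC.cj_mem_of hfP hf hfx
    set t := Cfsg.Agent.H706.FC.uN (tw b c (wv α B)) hN.sq with ht
    set u : (R K V)ˣ := t * (Cfsg.Agent.H706.FC.fu hfP t)⁻¹ with hu
    have huv : (u : R K V) = (1 + tw b c (wv α B)) * (1 - f (tw b c (wv α B))) := by
      have h1 : (((Cfsg.Agent.H706.FC.fu hfP t)⁻¹ : (R K V)ˣ) : R K V) = f ((t⁻¹ : (R K V)ˣ) : R K V) := rfl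
      have h2 : ((t⁻¹ : (R K V)ˣ) : R K V) = 1 - tw b c (wv α B) := rfl
      rw [hu, Units.val_mul, h1, h2, Cfsg.Agent.H706.FC.RP_map_sub hfP, Cfsg.Agent.H706.FC.RP_map_one hfP]
      rfl
    have huZ : cj K V (u * Z * u⁻¹) ∈ A := by
      rw [map_mul, map_mul, map_inv]
      exact hnorm _ huS _ hZA
    obtain ⟨i, j, ν, hν, hy⟩ := D.lift' hcomm hPA hZA huZ
    have huZ' : (u : R K V) * Z = (ν • ((P : R K V) ^ i * (Z : R K V) ^ j)) * u := by
      rw [← hy, ← Units.val_mul, ← Units.val_mul, inv_mul_cancel_right]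
    exact D.main hfP (hfc _ hZA) (hfc _ hPA) hc0 hc1 hc2 huv hν huZ'

end Cfsg.Agent.H10.U3
end

-- part: H99/FC/S4End
section
/-!
# S5764, StmtBC6 for `PSp_4`, `q` odd (helper99, task 5397): the final computation

`Z : Fin 5 → R` five pairwise anticommuting self-adjoint involutions with scalar product.  `S` permutes them up to sign
and an element of `S` fixing two of them (up to sign) fixes all of them.  Then
`S ∩ S^{x₁} ∩ S^{x₂} ∩ S^{x₃} = 1` for `x₁ = (Z₀+Z₁+Z₂+Z₃)/2`, `x₂ = (Z₀+Z₁+Z₂+Z₄)/2`, `x₃ = 1 + c Z₀ (Z₁ + α Z₂ + β Z₃)`.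
-/

set_option autoImplicit false
set_option linter.unusedSectionVars false

namespace Cfsg.Agent.H99.FC

open Cfsg.Agent.H198.FC

universe u v

/-! ### integers -/

/-- the matrix of `2 cj(xᵢ)` -/
def aa (i j k : Fin 5) : ℤ := if j = i then (if k = i then -2 else 0) else (if k = i then 0 else if j = k then -1 else 1)

/-- the matrix of `4 cj(xᵢ) f cj(xᵢ)⁻¹` -/
def MM (i : Fin 5) (π : Fin 5 → Fin 5) (ε : Fin 5 → ℤ) (j l : Fin 5) : ℤ :=
  aa i j 0 * ε 0 * aa i (π 0) l + aa i j 1 * ε 1 * aa i (π 1) l + aa i j 2 * ε 2 * aa i (π 2) l +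
    aa i j 3 * ε 3 * aa i (π 3) l + aa i j 4 * ε 4 * aa i (π 4) l

/-- signs -/
def sg (t : Bool) : ℤ := if t then -1 else 1

theorem exists_sg {e : ℤ} (h : e = 1 ∨ e = -1) : ∃ t, e = sg t := by
  rcases h with h | h
  · exact ⟨false, h⟩
  · exact ⟨true, h⟩

theorem sg_prod : ∀ t0 t1 t2 t3 t4 : Bool,
    sg t0 * sg t1 * sg t2 * sg t3 * sg t4 = sg (xor (xor (xor (xor t0 t1) t2) t3) t4) := by
  decide

theorem exists_ne_two : ∀ i m : Fin 5, ∃ l : Fin 5, l ≠ i ∧ l ≠ m := by
  decide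

theorem mm_vals (i : Fin 5) : ∀ t0 t1 t2 t3 t4 : Bool, ∀ j l : Fin 5,
    MM i id ![sg t0, sg t1, sg t2, sg t3, sg t4] j l = 0 ∨
    MM i id ![sg t0, sg t1, sg t2, sg t3, sg t4] j l = 2 ∨ MM i id ![sg t0, sg t1, sg t2, sg t3, sg t4] j l = -2 ∨
    MM i id ![sg t0, sg t1, sg t2, sg t3, sg t4] j l = 4 ∨ MM i id ![sg t0, sg t1, sg t2, sg t3, sg t4] j l = -4 := by
  revert i
  decide +kernel

/-- the row `j` is supported on `m` -/
def Row (i : Fin 5) (ε : Fin 5 → ℤ) (j m : Fin 5) : Prop := ∀ l : Fin 5, l ≠ m → MM i id ε j l = 0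

instance (i : Fin 5) (ε : Fin 5 → ℤ) (j m : Fin 5) : Decidable (Row i ε j m) := by
  unfold Row
  infer_instance

/-- the odd case is impossible -/
theorem comb1 (i : Fin 5) : ∀ t0 t1 t2 t3 t4 : Bool,
    (∀ j : Fin 5, ∃ m : Fin 5, Row i ![sg t0, sg t1, sg t2, sg t3, sg t4] j m) →
    xor (xor (xor (xor t0 t1) t2) t3) t4 = (![t0, t1, t2, t3, t4] : Fin 5 → Bool) i := by
  revert i
  decide +kernel

theorem comb2 : ∀ t0 t1 t2 : Bool, xor (xor t0 t1) t2 = false → (t0 = true ∨ t1 = true ∨ t2 = true) →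
    ∃ a b c : Fin 5, a ≠ b ∧ c ≠ 4 ∧
      (∀ m : Fin 5, Row 4 ![sg t0, sg t1, sg t2, sg false, sg false] a m → m = b) ∧
      (∀ m : Fin 5, Row 4 ![sg t0, sg t1, sg t2, sg false, sg false] b m → m = a) ∧
      (∀ m : Fin 5, Row 3 ![sg t0, sg t1, sg t2, sg false, sg false] a m → m = b) ∧
      (∀ m : Fin 5, Row 3 ![sg t0, sg t1, sg t2, sg false, sg false] b m → m = a) ∧
      (∀ m : Fin 5, Row 3 ![sg t0, sg t1, sg t2, sg false, sg false] c m → m = 4) ∧
      (∀ m : Fin 5, Row 4 ![sg t0, sg t1, sg t2, sg false, sg false] 4 m → m = 4) := by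
  decide +kernel

/-! ### the frame -/

variable {K : Type u} [Field K] {V : Type v} [AddCommGroup V] [Module K V]

/-- orthonormal frame -/
structure Frame (b : Cl K V) (Z : Fin 5 → R K V) : Prop where
  two : (2 : K) ≠ 0
  sq : ∀ i, Z i * Z i = 1
  anti : ∀ i j, i ≠ j → Z i * Z j = -(Z j * Z i)
  adj : ∀ i, b.Adj (Z i) (Z i)
  indep : LinearIndependent K Z
  prod : Z 0 * Z 1 * Z 2 * Z 3 * Z 4 = 1 ∨ Z 0 * Z 1 * Z 2 * Z 3 * Z 4 = -1
  gen : Algebra.adjoin K (Set.range Z) = ⊤

/-- coordinates -/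
def zz (Z : Fin 5 → R K V) (c : Fin 5 → K) : R K V := ∑ i, c i • Z i

theorem zz_inj {Z : Fin 5 → R K V} (h : LinearIndependent K Z) {c d : Fin 5 → K} (hcd : zz Z c = zz Z d) : c = d := by
  have h1 : ∑ i, (c i - d i) • Z i = 0 := by
    simp only [sub_smul, Finset.sum_sub_distrib]
    exact sub_eq_zero.2 hcd
  funext i
  exact sub_eq_zero.1 (Fintype.linearIndependent_iff.1 h _ h1 i)

theorem zz_single (Z : Fin 5 → R K V) (a : K) (m : Fin 5) : a • Z m = zz Z (fun k => if k = m then a else 0) := by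
  unfold zz
  simp

/-! ### adjoints -/

theorem adj_mul {b : Cl K V} {X X' Y Y' : R K V} (h : b.Adj X X') (h' : b.Adj Y Y') : b.Adj (X * Y) (Y' * X') := by
  intro v w
  change b.B (X (Y v)) w = b.B v (Y' (X' w))
  rw [h, h']

theorem adj_add {b : Cl K V} {X X' Y Y' : R K V} (h : b.Adj X X') (h' : b.Adj Y Y') : b.Adj (X + Y) (X' + Y') := by
  intro v w
  change b.B (X v + Y v) w = b.B v (X' w + Y' w)
  rw [b.add_left, b.add_right, h, h']

theorem adj_smul {b : Cl K V} (hτ : ∀ a, b.τ a = a) {X X' : R K V} (h : b.Adj X X') (c : K) :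
    b.Adj (c • X) (c • X') := by
  intro v w
  change b.B (c • X v) w = b.B v (c • X' w)
  rw [b.smul_left, b.smul_right, h, hτ]

theorem adj_neg {b : Cl K V} (hτ : ∀ a, b.τ a = a) {X X' : R K V} (h : b.Adj X X') : b.Adj (-X) (-X') := by
  have h1 := adj_smul hτ h (-1)
  rwa [neg_smul, one_smul, neg_smul, one_smul] at h1

theorem adj_one {b : Cl K V} : b.Adj 1 1 := fun _ _ => rfl

theorem isom_of_adj {b : Cl K V} {X Y : R K V} (h : b.Adj X Y) (hXY : Y * X = 1) : b.Isom X := by
  intro v w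
  rw [h]
  change b.B v ((Y * X) w) = _
  rw [hXY]
  rfl

/-! ### determinants -/

/-- if `u = X - Y` is invertible, `X² = Y² = 1`, then `det X = det (-Y)` -/
theorem det_aux {X Y : R K V} (hX : X * X = 1) (hY : Y * Y = 1) {t : K} (ht : t ≠ 0)
    (h : (X - Y) * (X - Y) = t • (1 : R K V)) : LinearMap.det X = LinearMap.det (-Y) := by
  have h1 : (X - Y) * X = -Y * (X - Y) := by
    rw [sub_mul, hX, neg_mul, mul_sub, hY]
    abel
  have h2 := congrArg LinearMap.det h1
  rw [map_mul, map_mul] at h2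
  have h3 : LinearMap.det (X - Y) ≠ 0 := by
    intro h0
    have h4 := congrArg LinearMap.det h
    rw [map_mul, h0, zero_mul, LinearMap.det_smul, map_one, mul_one] at h4
    exact pow_ne_zero _ ht h4.symm
  rw [mul_comm] at h2
  exact mul_right_cancel₀ h3 h2

theorem det_neg_four (hn : Module.finrank K V = 4) (X : R K V) : LinearMap.det (-X) = LinearMap.det X := by
  have h : -X = (-1 : K) • X := by rw [neg_smul, one_smul]
  rw [h, LinearMap.det_smul, hn]
  norm_num

namespace Frame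

variable {b : Cl K V} {Z : Fin 5 → R K V} (hZ : Frame b Z)
include hZ

theorem ne_zero_four : (4 : K) ≠ 0 := by
  have h : (4 : K) = 2 * 2 := by norm_num
  rw [h]
  exact mul_ne_zero hZ.two hZ.two

/-- `vᵢ` -/
theorem vv_mul (i : Fin 5) : (∑ j, Z j - Z i) * (∑ j, Z j - Z i) = (4 : K) • (1 : R K V) := by
  have h1 : ∀ j, (∑ k, Z k) * Z j + Z j * ∑ k, Z k = (2 : K) • (1 : R K V) := by
    intro j
    rw [Finset.sum_mul, Finset.mul_sum, ← Finset.sum_add_distrib, Finset.sum_eq_single j]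
    · rw [hZ.sq, two_smul]
    · intro k _ hk
      rw [hZ.anti k j hk]
      simp
    · intro h
      exact absurd (Finset.mem_univ j) h
  have h2 : (∑ k, Z k) * (∑ k, Z k) = (5 : K) • (1 : R K V) := by
    have h3 : (2 : K) • ((∑ k, Z k) * (∑ k, Z k)) = (2 : K) • ((5 : K) • (1 : R K V)) := by
      have h4 : ∑ j, ((∑ k, Z k) * Z j + Z j * ∑ k, Z k) = ∑ j : Fin 5, (2 : K) • (1 : R K V) :=
        Finset.sum_congr rfl fun j _ => h1 j
      rw [Finset.sum_add_distrib, ← Finset.mul_sum, ← Finset.sum_mul, ← two_smul K] at h4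
      rw [h4]
      simp only [Finset.sum_const, Finset.card_univ, Fintype.card_fin, smul_smul]
      rw [← Nat.cast_smul_eq_nsmul K, smul_smul]
      norm_num
    exact (smul_right_injective _ hZ.two) h3
  have h5 : (∑ j, Z j - Z i) * (∑ j, Z j - Z i) =
      (∑ k, Z k) * (∑ k, Z k) - ((∑ k, Z k) * Z i + Z i * ∑ k, Z k) + Z i * Z i := by noncomm_ring
  rw [h5, h2, h1, hZ.sq, ← sub_smul]
  have h6 : (1 : R K V) = (1 : K) • (1 : R K V) := (one_smul _ _).symm
  nth_rw 2 [h6]
  rw [← add_smul]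
  norm_num

theorem vv_comm (i j : Fin 5) (hij : j ≠ i) :
    (∑ k, Z k - Z i) * Z j + Z j * (∑ k, Z k - Z i) = (2 : K) • (1 : R K V) := by
  rw [sub_mul, mul_sub, hZ.anti i j hij.symm]
  rw [Finset.sum_mul, Finset.mul_sum]
  have h : ∑ k, Z k * Z j - -(Z j * Z i) + (∑ k, Z j * Z k - Z j * Z i) = ∑ k, (Z k * Z j + Z j * Z k) := by
    rw [Finset.sum_add_distrib]
    abel
  rw [h, Finset.sum_eq_single j]
  · rw [hZ.sq, two_smul]
  · intro k _ hk
    rw [hZ.anti k j hk]
    simp
  · intro h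
    exact absurd (Finset.mem_univ j) h

theorem vv_comm_self (i : Fin 5) :
    (∑ k, Z k - Z i) * Z i + Z i * (∑ k, Z k - Z i) = 0 := by
  rw [sub_mul, mul_sub]
  rw [Finset.sum_mul, Finset.mul_sum]
  have h : ∑ k, Z k * Z i - Z i * Z i + (∑ k, Z i * Z k - Z i * Z i) =
      ∑ k, (Z k * Z i + Z i * Z k) - (Z i * Z i + Z i * Z i) := by
    rw [Finset.sum_add_distrib]
    abel
  rw [h, Finset.sum_eq_single i, sub_self]
  · intro k _ hk
    rw [hZ.anti k i hk]
    simp
  · intro h
    exact absurd (Finset.mem_univ i) h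

/-- the involution `xᵢ` -/
def xx (i : Fin 5) : (R K V)ˣ where
  val := (1 / 2 : K) • (∑ k, Z k - Z i)
  inv := (1 / 2 : K) • (∑ k, Z k - Z i)
  val_inv := by
    rw [smul_mul_smul_comm, hZ.vv_mul, smul_smul]
    have h : (1 / 2 : K) * (1 / 2) * 4 = 1 := by
      have := hZ.two
      field_simp
      norm_num
    rw [h, one_smul]
  inv_val := by
    rw [smul_mul_smul_comm, hZ.vv_mul, smul_smul]
    have h : (1 / 2 : K) * (1 / 2) * 4 = 1 := by
      have := hZ.two
      field_simp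
      norm_num
    rw [h, one_smul]

theorem xx_inv (i : Fin 5) : (hZ.xx i)⁻¹ = hZ.xx i := rfl

theorem cj_xx_self (i : Fin 5) : cj K V (hZ.xx i) (Z i) = - Z i := by
  have h2 : (1 / 2 : K) * (1 / 2) * 4 = 1 := by
    have := hZ.two
    field_simp
    norm_num
  have h1 : (∑ k, Z k - Z i) * Z i = -(Z i * (∑ k, Z k - Z i)) := eq_neg_of_add_eq_zero_left (hZ.vv_comm_self i)
  change ((1 / 2 : K) • (∑ k, Z k - Z i)) * Z i * ((1 / 2 : K) • (∑ k, Z k - Z i)) = _
  rw [smul_mul_assoc, smul_mul_smul_comm, h1, neg_mul, mul_assoc, hZ.vv_mul, mul_smul_comm, mul_one, smul_neg,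
    smul_smul, h2, one_smul]

theorem cj_xx_of_ne (i j : Fin 5) (hij : j ≠ i) :
    (2 : K) • cj K V (hZ.xx i) (Z j) = (∑ k, Z k - Z i) - (2 : K) • Z j := by
  have h2 : (1 / 2 : K) * (1 / 2) * 4 = 1 := by
    have := hZ.two
    field_simp
    norm_num
  have h3 : (2 : K) * ((1 / 2 : K) * (1 / 2)) * 2 = 1 := by
    have := hZ.two
    field_simp
  have h1 : (∑ k, Z k - Z i) * Z j = (2 : K) • (1 : R K V) - Z j * (∑ k, Z k - Z i) :=
    eq_sub_of_add_eq (hZ.vv_comm i j hij)
  change (2 : K) • (((1 / 2 : K) • (∑ k, Z k - Z i)) * Z j * ((1 / 2 : K) • (∑ k, Z k - Z i))) = _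
  rw [smul_mul_assoc, smul_mul_smul_comm, h1, sub_mul, mul_assoc, hZ.vv_mul, mul_smul_comm, mul_one, smul_mul_assoc,
    one_mul, smul_smul, smul_sub, smul_smul, smul_smul, h3, one_smul, mul_assoc, h2, mul_one]

theorem cj_xx (i j : Fin 5) :
    (2 : K) • cj K V (hZ.xx i) (Z j) = zz Z (fun k => (aa i j k : K)) := by
  by_cases hij : j = i
  · subst hij
    rw [hZ.cj_xx_self]
    unfold zz aa
    simp
  · rw [hZ.cj_xx_of_ne i j hij]
    unfold zz aa
    have h : ∀ k, (((if j = i then (if k = i then (-2 : ℤ) else 0) else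
        (if k = i then 0 else if j = k then -1 else 1)) : ℤ) : K) • Z k =
        Z k - (if k = i then Z k else 0) - (if k = j then (2 : K) • Z k else 0) := by
      intro k
      rw [if_neg hij]
      by_cases h1 : k = i
      · subst h1
        rw [if_pos rfl, if_pos rfl, if_neg (Ne.symm hij)]
        simp
      · rw [if_neg h1, if_neg h1]
        by_cases h2 : k = j
        · subst h2
          rw [if_pos rfl, if_pos rfl]
          have h3 : ((-1 : ℤ) : K) = 1 - 2 := by norm_num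
          rw [h3, sub_smul, one_smul, sub_zero]
        · rw [if_neg (Ne.symm h2), if_neg h2]
          simp
    rw [Finset.sum_congr rfl fun k _ => h k, Finset.sum_sub_distrib, Finset.sum_sub_distrib]
    simp

end Frame

theorem add_sum {f : R K V → R K V} (hf : ∀ X Y, f (X + Y) = f X + f Y) (n : Fin 5 → ℤ) (Z : Fin 5 → R K V) :
    f (zz Z fun k => (n k : K)) = ∑ k, (n k : K) • f (Z k) := by
  unfold zz
  have h := map_sum (AddMonoidHom.mk' f hf) (fun k => (n k : K) • Z k) Finset.univ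
  refine h.trans (Finset.sum_congr rfl fun k _ => ?_)
  have h2 := map_zsmul (AddMonoidHom.mk' f hf) (n k) (Z k)
  rw [Int.cast_smul_eq_zsmul, Int.cast_smul_eq_zsmul]
  exact h2

namespace Frame

variable {b : Cl K V} {Z : Fin 5 → R K V} (hZ : Frame b Z)
include hZ

theorem cj_zz (i : Fin 5) (c : Fin 5 → K) :
    (2 : K) • cj K V (hZ.xx i) (zz Z c) = zz Z (fun l => ∑ k, c k * (aa i k l : K)) := by
  have h1 : cj K V (hZ.xx i) (zz Z c) = ∑ k, c k • cj K V (hZ.xx i) (Z k) := by
    unfold zz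
    simp only [cj_apply, Finset.mul_sum, Finset.sum_mul, mul_smul_comm, smul_mul_assoc]
  rw [h1, Finset.smul_sum]
  have h2 : ∀ k, (2 : K) • c k • cj K V (hZ.xx i) (Z k) = c k • zz Z (fun l => (aa i k l : K)) := by
    intro k
    rw [smul_comm, hZ.cj_xx]
  rw [Finset.sum_congr rfl fun k _ => h2 k]
  unfold zz
  simp only [Finset.smul_sum, Finset.sum_smul, smul_smul]
  rw [Finset.sum_comm]

/-- the matrix of `4 cj(xᵢ) f cj(xᵢ)⁻¹` -/
theorem key {f : Equiv.Perm (R K V)} (hf : ∀ X Y, f (X + Y) = f X + f Y) {π π' : Fin 5 → Fin 5} {ε ε' : Fin 5 → ℤ}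
    (hfZ : ∀ k, f (Z k) = (ε k : K) • Z (π k)) {i : Fin 5}
    (hfZ' : ∀ k, (cj K V (hZ.xx i) * f * (cj K V (hZ.xx i))⁻¹) (Z k) = (ε' k : K) • Z (π' k)) (j l : Fin 5) :
    ((MM i π ε j l : ℤ) : K) = if l = π' j then 4 * (ε' j : K) else 0 := by
  have h1 : (cj K V (hZ.xx i) * f * (cj K V (hZ.xx i))⁻¹) (Z j) =
      cj K V (hZ.xx i) (f (cj K V (hZ.xx i) (Z j))) := by
    rw [← map_inv, hZ.xx_inv]
    rfl
  have h2 : (2 : K) • f (cj K V (hZ.xx i) (Z j)) = zz Z (fun l => ∑ k, (aa i j k : K) * (if l = π k then (ε k : K) else 0)) := by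
    have h3 : (2 : K) • f (cj K V (hZ.xx i) (Z j)) = f ((2 : K) • cj K V (hZ.xx i) (Z j)) := by
      rw [two_smul, two_smul, hf]
    rw [h3, hZ.cj_xx, add_sum hf]
    have h4 : ∀ k, (aa i j k : K) • f (Z k) = ∑ l, ((aa i j k : K) * (if l = π k then (ε k : K) else 0)) • Z l := by
      intro k
      rw [hfZ]
      simp [smul_smul]
    rw [Finset.sum_congr rfl fun k _ => h4 k, Finset.sum_comm]
    unfold zz
    simp only [Finset.sum_smul]
  have h5 : (4 : K) • (cj K V (hZ.xx i) * f * (cj K V (hZ.xx i))⁻¹) (Z j) =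
      zz Z (fun l => ∑ m, (∑ k, (aa i j k : K) * (if m = π k then (ε k : K) else 0)) * (aa i m l : K)) := by
    rw [h1, ← hZ.cj_zz, ← h2]
    simp only [cj_apply, mul_smul_comm, smul_mul_assoc, smul_smul]
    norm_num
  rw [hfZ', smul_smul, zz_single] at h5
  have h6 := congrFun (zz_inj hZ.indep h5) l
  refine Eq.trans ?_ h6.symm
  unfold MM
  have h7 : ∀ k, ∑ m, (aa i j k : K) * (if m = π k then (ε k : K) else 0) * (aa i m l : K) =
      (aa i j k : K) * (ε k : K) * (aa i (π k) l : K) := by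
    intro k
    rw [Finset.sum_eq_single (π k)]
    · rw [if_pos rfl]
    · intro m _ hm
      rw [if_neg hm]
      ring
    · intro h
      exact absurd (Finset.mem_univ _) h
  simp only [Finset.sum_mul]
  rw [Finset.sum_comm, Finset.sum_congr rfl fun k _ => h7 k, Fin.sum_univ_five]
  push_cast
  ring

theorem key_fix {f : Equiv.Perm (R K V)} (hf : ∀ X Y, f (X + Y) = f X + f Y) {π π' : Fin 5 → Fin 5}
    {ε ε' : Fin 5 → ℤ} (hε : ∀ k, ε k = 1 ∨ ε k = -1)
    (hfZ : ∀ k, f (Z k) = (ε k : K) • Z (π k)) {i : Fin 5}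
    (hfZ' : ∀ k, (cj K V (hZ.xx i) * f * (cj K V (hZ.xx i))⁻¹) (Z k) = (ε' k : K) • Z (π' k)) : π i = i := by
  by_contra hne
  obtain ⟨l, hl1, hl2⟩ : ∃ l : Fin 5, l ≠ i ∧ l ≠ π' i := exists_ne_two i (π' i)
  have h := hZ.key hf hfZ hfZ' i l
  rw [if_neg hl2] at h
  have h1 : MM i π ε i l = -2 * ε i * aa i (π i) l := by
    have h2 : MM i π ε i l = ∑ k, aa i i k * ε k * aa i (π k) l := by
      rw [Fin.sum_univ_five]
      rfl
    rw [h2, Finset.sum_eq_single i]
    · unfold aa
      simp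
    · intro k _ hk
      unfold aa
      simp [hk]
    · intro h
      exact absurd (Finset.mem_univ _) h
  have h2 : aa i (π i) l = 1 ∨ aa i (π i) l = -1 := by
    unfold aa
    rw [if_neg hne, if_neg hl1]
    split_ifs
    · right; rfl
    · left; rfl
  rw [h1] at h
  push_cast at h
  have h3 := hZ.two
  rcases hε i with h4 | h4 <;> rcases h2 with h5 | h5 <;> rw [h4, h5] at h <;> norm_num at h <;> exact h3 h

theorem key_row {f : Equiv.Perm (R K V)} (hf : ∀ X Y, f (X + Y) = f X + f Y) {π' : Fin 5 → Fin 5}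
    {ε' : Fin 5 → ℤ} {t0 t1 t2 t3 t4 : Bool}
    (hfZ : ∀ k, f (Z k) = ((![sg t0, sg t1, sg t2, sg t3, sg t4] k : ℤ) : K) • Z k) {i : Fin 5}
    (hfZ' : ∀ k, (cj K V (hZ.xx i) * f * (cj K V (hZ.xx i))⁻¹) (Z k) = (ε' k : K) • Z (π' k)) (j : Fin 5) :
    Row i ![sg t0, sg t1, sg t2, sg t3, sg t4] j (π' j) := by
  intro l hl
  have h := hZ.key (π := id) hf hfZ hfZ' j l
  rw [if_neg hl] at h
  have h2 := hZ.two
  have h4 := hZ.ne_zero_four
  rcases mm_vals i t0 t1 t2 t3 t4 j l with h1 | h1 | h1 | h1 | h1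
  · exact h1
  all_goals
    rw [h1] at h
    push_cast at h
    exfalso
    first | exact h2 h | exact h4 h | exact h2 (neg_eq_zero.1 h) | exact h4 (neg_eq_zero.1 h)

/-- the linear part -/
theorem fixed (S : Subgroup (Equiv.Perm (R K V))) (hSP : S ≤ RP K V)
    (hS : ∀ f ∈ S, ∃ (π : Equiv.Perm (Fin 5)) (ε : Fin 5 → ℤ), (∀ i, ε i = 1 ∨ ε i = -1) ∧
      ∀ i, f (Z i) = (ε i : K) • Z (π i))
    (hG : ∀ f ∈ S, ∀ (π : Equiv.Perm (Fin 5)) (ε : Fin 5 → ℤ), (∀ i, ε i = 1 ∨ ε i = -1) →
      (∀ i, f (Z i) = (ε i : K) • Z (π i)) → ∀ i j, i ≠ j → π i = i → π j = j → π = 1)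
    {f : Equiv.Perm (R K V)} (hf : f ∈ S) (h4 : cj K V (hZ.xx 4) * f * (cj K V (hZ.xx 4))⁻¹ ∈ S)
    (h3 : cj K V (hZ.xx 3) * f * (cj K V (hZ.xx 3))⁻¹ ∈ S) : ∀ i, f (Z i) = Z i := by
  obtain ⟨π, ε, hε, hfZ⟩ := hS f hf
  obtain ⟨π4, ε4, hε4, hfZ4⟩ := hS _ h4
  obtain ⟨π3, ε3, hε3, hfZ3⟩ := hS _ h3
  have hfa := (hSP hf).1
  have hfm := (hSP hf).2
  have e1 : π 4 = 4 := hZ.key_fix hfa hε hfZ hfZ4
  have e2 : π 3 = 3 := hZ.key_fix hfa hε hfZ hfZ3
  have e3 : π = 1 := hG f hf π ε hε hfZ 4 3 (by decide) e1 e2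
  subst e3
  obtain ⟨t0, ht0⟩ := exists_sg (hε 0)
  obtain ⟨t1, ht1⟩ := exists_sg (hε 1)
  obtain ⟨t2, ht2⟩ := exists_sg (hε 2)
  obtain ⟨t3, ht3⟩ := exists_sg (hε 3)
  obtain ⟨t4, ht4⟩ := exists_sg (hε 4)
  have he : ε = ![sg t0, sg t1, sg t2, sg t3, sg t4] := by
    funext i
    fin_cases i <;> assumption
  rw [he] at hfZ
  have r4 : ∀ j, Row 4 ![sg t0, sg t1, sg t2, sg t3, sg t4] j (π4 j) := fun j => hZ.key_row hfa hfZ hfZ4 j
  have r3 : ∀ j, Row 3 ![sg t0, sg t1, sg t2, sg t3, sg t4] j (π3 j) := fun j => hZ.key_row hfa hfZ hfZ3 j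
  have c4 := comb1 4 t0 t1 t2 t3 t4 fun j => ⟨_, r4 j⟩
  have c3 := comb1 3 t0 t1 t2 t3 t4 fun j => ⟨_, r3 j⟩
  -- the product
  have hprod : xor (xor (xor (xor t0 t1) t2) t3) t4 = false := by
    have f1 : f 1 = 1 := by
      have h := hfm 1 (f.symm 1)
      rw [one_mul, Equiv.apply_symm_apply, mul_one] at h
      exact h.symm
    have f0 : f 0 = 0 := by
      have h := hfa 0 0
      rw [add_zero] at h
      exact left_eq_add.1 h
    have fn : f (-1) = -1 := by
      have h := hfa 1 (-1)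
      rw [add_neg_cancel, f0, f1] at h
      exact (neg_eq_of_add_eq_zero_right h.symm).symm
    have h1 : f (Z 0 * Z 1 * Z 2 * Z 3 * Z 4) = Z 0 * Z 1 * Z 2 * Z 3 * Z 4 := by
      rcases hZ.prod with h | h
      · rw [h, f1]
      · rw [h, fn]
    have h2 : f (Z 0 * Z 1 * Z 2 * Z 3 * Z 4) =
        ((sg t0 * sg t1 * sg t2 * sg t3 * sg t4 : ℤ) : K) • (Z 0 * Z 1 * Z 2 * Z 3 * Z 4) := by
      rw [hfm, hfm, hfm, hfm, hfZ, hfZ, hfZ, hfZ, hfZ]
      simp only [smul_mul_smul_comm]
      push_cast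
      rfl
    have h3 : ((sg t0 * sg t1 * sg t2 * sg t3 * sg t4 : ℤ) : K) = 1 := by
      have h5 : Z 0 * Z 1 * Z 2 * Z 3 * Z 4 ≠ 0 := by
        have h6 : (1 : R K V) ≠ 0 := by
          intro h
          apply hZ.indep.ne_zero 0
          rw [← mul_one (Z 0), h, mul_zero]
        rcases hZ.prod with h | h
        · rw [h]; exact h6
        · rw [h]; exact neg_ne_zero.2 h6
      rw [h1] at h2
      have h7 : (((sg t0 * sg t1 * sg t2 * sg t3 * sg t4 : ℤ) : K) - 1) • (Z 0 * Z 1 * Z 2 * Z 3 * Z 4) = 0 := by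
        rw [sub_smul, one_smul, ← h2, sub_self]
      exact sub_eq_zero.1 ((smul_eq_zero.1 h7).resolve_right h5)
    rw [sg_prod] at h3
    by_contra hne
    rw [Bool.not_eq_false] at hne
    rw [hne] at h3
    apply hZ.two
    unfold sg at h3
    simp only [if_true] at h3
    push_cast at h3
    have h9 : (2 : K) = 1 - (-1) := by norm_num
    rw [h9, h3, sub_self]
  rw [hprod] at c4 c3
  have e4 : t4 = false := c4.symm
  have e5 : t3 = false := c3.symm
  subst e4 e5
  have hx : xor (xor t0 t1) t2 = false := by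
    rw [Bool.xor_false, Bool.xor_false] at hprod
    exact hprod
  by_cases hall : t0 = true ∨ t1 = true ∨ t2 = true
  · exfalso
    obtain ⟨a, c, d, hac, hd, w1, w2, w3, w4, w5, w6⟩ := comb2 t0 t1 t2 hx hall
    have p1 := w1 _ (r4 a)
    have p2 := w2 _ (r4 c)
    have p3 := w3 _ (r3 a)
    have p4 := w4 _ (r3 c)
    have p5 := w5 _ (r3 d)
    have p6 := w6 _ (r4 4)
    have hg := mul_mem h4 h3
    have hgZ : ∀ i, ((cj K V (hZ.xx 4) * f * (cj K V (hZ.xx 4))⁻¹) * (cj K V (hZ.xx 3) * f * (cj K V (hZ.xx 3))⁻¹)) (Z i) =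
        (((fun i => ε3 i * ε4 (π3 i)) i : ℤ) : K) • Z ((π4 * π3) i) := by
      intro i
      rw [Equiv.Perm.mul_apply, hfZ3]
      have hadd := (hSP h4).1
      have h := map_zsmul (AddMonoidHom.mk' _ hadd) (ε3 i) (Z (π3 i))
      rw [Int.cast_smul_eq_zsmul]
      refine h.trans ?_
      change ε3 i • (cj K V (hZ.xx 4) * f * (cj K V (hZ.xx 4))⁻¹) (Z (π3 i)) = _
      rw [hfZ4, ← Int.cast_smul_eq_zsmul K (ε3 i), smul_smul]
      push_cast
      rfl
    have hone := hG _ hg (π4 * π3) (fun i => ε3 i * ε4 (π3 i)) (fun i => by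
      rcases hε3 i with h | h <;> rcases hε4 (π3 i) with h' | h' <;> rw [h, h'] <;> simp) hgZ a c hac
      (by rw [Equiv.Perm.mul_apply, p3, p2]) (by rw [Equiv.Perm.mul_apply, p4, p1])
    have h := Equiv.congr_fun hone d
    rw [Equiv.Perm.mul_apply, p5, p6] at h
    exact hd h.symm
  · push Not at hall
    have q0 : t0 = false := Bool.eq_false_of_not_eq_true hall.1
    have q1 : t1 = false := Bool.eq_false_of_not_eq_true hall.2.1
    have q2 : t2 = false := Bool.eq_false_of_not_eq_true hall.2.2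
    subst q0 q1 q2
    intro i
    rw [hfZ i]
    have h : (![sg false, sg false, sg false, sg false, sg false] : Fin 5 → ℤ) i = 1 := by
      fin_cases i <;> rfl
    rw [h]
    simp

theorem det_Z (hn : Module.finrank K V = 4) (i : Fin 5) : LinearMap.det (Z i) = 1 := by
  have h0 : ∀ j, LinearMap.det (Z j) = LinearMap.det (Z i) := by
    intro j
    by_cases hij : j = i
    · rw [hij]
    · rw [det_aux (hZ.sq j) (hZ.sq i) hZ.two (by
        rw [sub_mul, mul_sub, mul_sub, hZ.sq, hZ.sq, hZ.anti j i hij, two_smul]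
        abel), det_neg_four hn]
  have h1 : LinearMap.det (Z 0 * Z 1 * Z 2 * Z 3 * Z 4) = 1 := by
    rcases hZ.prod with h | h
    · rw [h, map_one]
    · rw [h, det_neg_four hn, map_one]
  rw [map_mul, map_mul, map_mul, map_mul, h0 0, h0 1, h0 2, h0 3, h0 4] at h1
  have h2 := congrArg LinearMap.det (hZ.sq i)
  rw [map_mul, map_one] at h2
  calc LinearMap.det (Z i) = LinearMap.det (Z i) * (LinearMap.det (Z i) * LinearMap.det (Z i)) *
        (LinearMap.det (Z i) * LinearMap.det (Z i)) := by rw [h2]; ring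
    _ = _ := by rw [← h1]; ring

theorem det_xx (hn : Module.finrank K V = 4) (i : Fin 5) : LinearMap.det ((hZ.xx i : (R K V)ˣ) : R K V) = 1 := by
  obtain ⟨j, hj, -⟩ := exists_ne_two i i
  have h1 : ((hZ.xx i : (R K V)ˣ) : R K V) * ((hZ.xx i : (R K V)ˣ) : R K V) = 1 := (hZ.xx i).mul_inv
  have h2 : Z j * ((hZ.xx i : (R K V)ˣ) : R K V) + ((hZ.xx i : (R K V)ˣ) : R K V) * Z j = 1 := by
    change Z j * ((1 / 2 : K) • (∑ k, Z k - Z i)) + ((1 / 2 : K) • (∑ k, Z k - Z i)) * Z j = 1
    rw [mul_smul_comm, smul_mul_assoc, ← smul_add, add_comm, hZ.vv_comm i j hj, smul_smul]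
    have h : (1 / 2 : K) * 2 = 1 := by
      have := hZ.two
      field_simp
    rw [h, one_smul]
  rw [← det_neg_four hn, ← det_aux (hZ.sq j) h1 one_ne_zero (by
    rw [sub_mul, mul_sub, mul_sub, hZ.sq, h1, one_smul]
    have h3 : Z j * ((hZ.xx i : (R K V)ˣ) : R K V) = 1 - ((hZ.xx i : (R K V)ˣ) : R K V) * Z j := eq_sub_of_add_eq h2
    rw [h3]
    abel), hZ.det_Z hn]

theorem adj_sum (s : Finset (Fin 5)) : b.Adj (∑ k ∈ s, Z k) (∑ k ∈ s, Z k) := by
  classical
  induction s using Finset.induction_on with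
  | empty =>
    rw [Finset.sum_empty]
    intro v w
    have h0 : b.B 0 w = 0 := by
      have h := b.add_left 0 0 w
      rw [add_zero] at h
      exact left_eq_add.1 h
    have h1 : b.B v 0 = 0 := by
      have h := b.add_right v 0 0
      rw [add_zero] at h
      exact left_eq_add.1 h
    change b.B 0 w = b.B v 0
    rw [h0, h1]
  | insert a s ha ih =>
    rw [Finset.sum_insert ha]
    exact adj_add (hZ.adj a) ih

theorem adj_xx (hτ : ∀ a, b.τ a = a) (i : Fin 5) :
    b.Adj ((hZ.xx i : (R K V)ˣ) : R K V) ((hZ.xx i : (R K V)ˣ) : R K V) := by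
  change b.Adj ((1 / 2 : K) • (∑ k, Z k - Z i)) ((1 / 2 : K) • (∑ k, Z k - Z i))
  apply adj_smul hτ
  rw [sub_eq_add_neg]
  exact adj_add (hZ.adj_sum _) (adj_neg hτ (hZ.adj i))

theorem isom_xx (hτ : ∀ a, b.τ a = a) (i : Fin 5) : b.Isom ((hZ.xx i : (R K V)ˣ) : R K V) :=
  isom_of_adj (hZ.adj_xx hτ i) (hZ.xx i).mul_inv

/-! ### the transvection -/

/-- `N = Z₀ (Z₁ + α Z₂ + β Z₃)`, `1 + α² + β² = 0` -/
theorem uu_sq {α β : K} (h : 1 + α ^ 2 + β ^ 2 = 0) :
    (Z 1 + α • Z 2 + β • Z 3) * (Z 1 + α • Z 2 + β • Z 3) = 0 := by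
  have h1 : (Z 1 + α • Z 2 + β • Z 3) * (Z 1 + α • Z 2 + β • Z 3) =
      (Z 1 * Z 1 + (α ^ 2) • (Z 2 * Z 2) + (β ^ 2) • (Z 3 * Z 3)) + α • (Z 1 * Z 2 + Z 2 * Z 1) +
        β • (Z 1 * Z 3 + Z 3 * Z 1) + (α * β) • (Z 2 * Z 3 + Z 3 * Z 2) := by
    simp only [add_mul, mul_add, smul_mul_assoc, mul_smul_comm, smul_smul, smul_add, pow_two]
    rw [mul_comm β α]
    abel
  rw [h1, hZ.sq, hZ.sq, hZ.sq, hZ.anti 1 2 (by decide), hZ.anti 1 3 (by decide), hZ.anti 2 3 (by decide)]
  simp only [neg_add_cancel, smul_zero, add_zero]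
  rw [← one_smul K (1 : R K V), smul_smul, smul_smul, ← add_smul, ← add_smul, mul_one, mul_one, h, zero_smul]

theorem uu_anti (α β : K) : Z 0 * (Z 1 + α • Z 2 + β • Z 3) = -((Z 1 + α • Z 2 + β • Z 3) * Z 0) := by
  simp only [add_mul, mul_add, smul_mul_assoc, mul_smul_comm]
  rw [hZ.anti 0 1 (by decide), hZ.anti 0 2 (by decide), hZ.anti 0 3 (by decide)]
  simp only [smul_neg]
  abel

theorem uu_adj (hτ : ∀ a, b.τ a = a) (α β : K) :
    b.Adj (Z 1 + α • Z 2 + β • Z 3) (Z 1 + α • Z 2 + β • Z 3) :=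
  adj_add (adj_add (hZ.adj 1) (adj_smul hτ (hZ.adj 2) α)) (adj_smul hτ (hZ.adj 3) β)

end Frame

/-! ### abstract transvections: `Z² = 1`, `u² = 0`, `Z u = - u Z`; `1 + c Z u` -/

theorem nn_sq {Z u : R K V} (hu : u * u = 0) (hZu : Z * u = -(u * Z)) : Z * u * (Z * u) = 0 := by
  calc Z * u * (Z * u) = Z * (u * Z) * u := by noncomm_ring
    _ = -(Z * Z * (u * u)) := by
      rw [show u * Z = -(Z * u) by rw [hZu, neg_neg]]
      noncomm_ring
    _ = 0 := by rw [hu, mul_zero, neg_zero]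

/-- the transvection -/
def tv {Z u : R K V} (hu : u * u = 0) (hZu : Z * u = -(u * Z)) (c : K) : (R K V)ˣ where
  val := 1 + c • (Z * u)
  inv := 1 - c • (Z * u)
  val_inv := by
    rw [add_mul, mul_sub, mul_sub, smul_mul_smul_comm, nn_sq hu hZu]
    simp
  inv_val := by
    rw [sub_mul, mul_add, mul_add, smul_mul_smul_comm, nn_sq hu hZu]
    simp

theorem tv_det {Z u : R K V} (h2 : (2 : K) ≠ 0) (hZ : Z * Z = 1) (hu : u * u = 0) (hZu : Z * u = -(u * Z)) (c : K) :
    LinearMap.det ((tv hu hZu c : (R K V)ˣ) : R K V) = 1 := by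
  have h : ((tv hu hZu c : (R K V)ˣ) : R K V) * (Z * ((tv hu hZu (c / 2) : (R K V)ˣ) : R K V)) =
      ((tv hu hZu (c / 2) : (R K V)ˣ) : R K V) * Z := by
    change (1 + c • (Z * u)) * (Z * (1 + (c / 2) • (Z * u))) = (1 + (c / 2) • (Z * u)) * Z
    have e1 : Z * (Z * u) = u := by rw [← mul_assoc, hZ, one_mul]
    have e2 : Z * u * Z = -u := by
      rw [hZu, neg_mul, mul_assoc, hZ, mul_one]
    have e3 : Z * u * u = 0 := by rw [mul_assoc, hu, mul_zero]
    simp only [mul_add, add_mul, mul_one, one_mul, mul_smul_comm, smul_mul_assoc, e1, e2, e3, smul_zero, smul_neg,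
      add_zero]
    have h3 : c • u = (c / 2) • u + (c / 2) • u := by
      have : NeZero (2 : K) := ⟨h2⟩
      rw [← add_smul, add_halves]
    rw [h3]
    abel
  have h1 := congrArg LinearMap.det h
  rw [map_mul, map_mul, map_mul, mul_comm (LinearMap.det Z)] at h1
  have h4 : LinearMap.det ((tv hu hZu (c / 2) : (R K V)ˣ) : R K V) * LinearMap.det Z ≠ 0 := by
    apply mul_ne_zero
    · exact (((tv hu hZu (c / 2)).isUnit.map (LinearMap.det : R K V →* K))).ne_zero
    · intro h0
      have := congrArg LinearMap.det hZ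
      rw [map_mul, h0, zero_mul, map_one] at this
      exact one_ne_zero this.symm
  exact mul_right_cancel₀ h4 (by rw [h1, one_mul])

theorem tv_isom {b : Cl K V} (hτ : ∀ a, b.τ a = a) {Z u : R K V} (hu : u * u = 0) (hZu : Z * u = -(u * Z))
    (hZ : b.Adj Z Z) (hu' : b.Adj u u) (c : K) : b.Isom ((tv hu hZu c : (R K V)ˣ) : R K V) := by
  refine isom_of_adj (Y := ((tv hu hZu c)⁻¹ : (R K V)ˣ)) ?_ (tv hu hZu c).inv_mul
  change b.Adj (1 + c • (Z * u)) (1 - c • (Z * u))
  rw [sub_eq_add_neg, ← smul_neg, hZu, neg_neg, ← hZu]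
  refine adj_add adj_one (adj_smul hτ ?_ c)
  exact adj_mul hZ hu'

theorem tv_Z {Z u : R K V} (hZ : Z * Z = 1) (hu : u * u = 0) (hZu : Z * u = -(u * Z)) (c : K) :
    cj K V (tv hu hZu c) Z = Z - (2 * c) • u := by
  change (1 + c • (Z * u)) * Z * (1 - c • (Z * u)) = _
  have e1 : Z * (Z * u) = u := by rw [← mul_assoc, hZ, one_mul]
  have e2 : Z * u * Z = -u := by
    rw [hZu, neg_mul, mul_assoc, hZ, mul_one]
  have e3 : u * (Z * u) = 0 := by rw [hZu, mul_neg, ← mul_assoc, hu, zero_mul, neg_zero]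
  rw [add_mul, one_mul, smul_mul_assoc, e2, mul_sub, mul_one, mul_smul_comm, add_mul, e1, smul_mul_assoc, neg_mul, e3]
  rw [two_mul, add_smul]
  simp only [smul_neg, neg_zero, smul_zero, add_zero]
  abel

theorem tv_Z_inv {Z u : R K V} (hZ : Z * Z = 1) (hu : u * u = 0) (hZu : Z * u = -(u * Z)) (c : K) :
    (cj K V (tv hu hZu c))⁻¹ Z = Z + (2 * c) • u := by
  rw [← map_inv]
  have h : (tv hu hZu c)⁻¹ = tv hu hZu (-c) := by
    apply Units.ext
    change 1 - c • (Z * u) = 1 + (-c) • (Z * u)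
    rw [neg_smul, sub_eq_add_neg]
  rw [h, tv_Z hZ, mul_neg, neg_smul, sub_neg_eq_add]

theorem tv_u {Z u : R K V} (hu : u * u = 0) (hZu : Z * u = -(u * Z)) (c : K) :
    cj K V (tv hu hZu c) u = u := by
  change (1 + c • (Z * u)) * u * (1 - c • (Z * u)) = _
  have e2 : Z * u * u = 0 := by rw [mul_assoc, hu, mul_zero]
  have e3 : u * (Z * u) = 0 := by rw [hZu, mul_neg, ← mul_assoc, hu, zero_mul, neg_zero]
  rw [add_mul, one_mul, smul_mul_assoc, e2, mul_sub, mul_one, mul_smul_comm, smul_zero, add_zero, e3, smul_zero,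
    sub_zero]

theorem exists_center {f : Equiv.Perm (R K V)} (hf : f ∈ RP K V) (c : K) : ∃ c' : K, f (c • (1 : R K V)) = c' • (1 : R K V) := by
  have h : f (c • (1 : R K V)) ∈ Set.center (Module.End K V) := by
    rw [Semigroup.mem_center_iff]
    intro g
    obtain ⟨X, rfl⟩ := f.surjective g
    rw [← hf.2, ← hf.2]
    congr 1
    simp
  obtain ⟨α, hα, h⟩ := Module.End.mem_center_iff.1 h
  refine ⟨α, ?_⟩
  rw [h]
  ext v
  rfl

theorem map_one' {f : Equiv.Perm (R K V)} (hf : f ∈ RP K V) : f 1 = 1 := by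
  have h := hf.2 1 (f.symm 1)
  rw [one_mul, Equiv.apply_symm_apply, mul_one] at h
  exact h.symm

theorem map_pow' {f : Equiv.Perm (R K V)} (hf : f ∈ RP K V) (X : R K V) (n : ℕ) : f (X ^ n) = f X ^ n := by
  induction n with
  | zero => rw [pow_zero, pow_zero, map_one' hf]
  | succ n ih => rw [pow_succ, pow_succ, hf.2, ih]

theorem map_smul' {f : Equiv.Perm (R K V)} (hf : f ∈ RP K V) {c c' : K} (h : f (c • (1 : R K V)) = c' • (1 : R K V))
    (X : R K V) : f (c • X) = c' • f X := by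
  have h1 : c • X = (c • (1 : R K V)) * X := by rw [smul_mul_assoc, one_mul]
  rw [h1, hf.2, h, smul_mul_assoc, one_mul]

theorem map_zero' {f : Equiv.Perm (R K V)} (hf : f ∈ RP K V) : f 0 = 0 := by
  have h := hf.1 0 0
  rw [add_zero] at h
  exact left_eq_add.1 h

/-- `-1` is a sum of two squares of integers -/
theorem exists_alpha (K : Type*) [Field K] [Finite K] : ∃ α β : ℤ, 1 + (α : K) ^ 2 + (β : K) ^ 2 = 0 := by
  obtain ⟨p, hp⟩ := CharP.exists K
  have hpr : Fact p.Prime := ⟨CharP.char_is_prime K p⟩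
  obtain ⟨a, c, h⟩ := ZMod.sq_add_sq p (-1)
  refine ⟨a.val, c.val, ?_⟩
  have h1 := congrArg (ZMod.castHom (dvd_refl p) K) h
  rw [map_add, map_pow, map_pow, map_neg, map_one] at h1
  have h2 : ∀ x : ZMod p, ZMod.castHom (dvd_refl p) K x = ((x.val : ℤ) : K) := by
    intro x
    rw [ZMod.castHom_apply, ZMod.cast_eq_val]
    simp
  rw [h2, h2] at h1
  rw [add_assoc, h1, add_neg_cancel]

/-- **The final computation.** -/
theorem Frame.five [Finite K] {b : Cl K V} {Z : Fin 5 → R K V} (hZ : Frame b Z) (hτ : ∀ a, b.τ a = a)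
    (hn : Module.finrank K V = 4) (S : Subgroup (Equiv.Perm (R K V))) (hSP : S ≤ RP K V)
    (hS : ∀ f ∈ S, ∃ (π : Equiv.Perm (Fin 5)) (ε : Fin 5 → ℤ), (∀ i, ε i = 1 ∨ ε i = -1) ∧
      ∀ i, f (Z i) = (ε i : K) • Z (π i))
    (hG : ∀ f ∈ S, ∀ (π : Equiv.Perm (Fin 5)) (ε : Fin 5 → ℤ), (∀ i, ε i = 1 ∨ ε i = -1) →
      (∀ i, f (Z i) = (ε i : K) • Z (π i)) → ∀ i j, i ≠ j → π i = i → π j = j → π = 1) : FiveB b S := by
  classical
  obtain ⟨α, β, hαβ⟩ := exists_alpha K
  have := Fintype.ofFinite K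
  obtain ⟨c, hc⟩ := IsCyclic.exists_generator (α := Kˣ)
  have hu : (Z 1 + (α : K) • Z 2 + (β : K) • Z 3) * (Z 1 + (α : K) • Z 2 + (β : K) • Z 3) = 0 := hZ.uu_sq hαβ
  have hZu := hZ.uu_anti (α : K) (β : K)
  refine ⟨![hZ.xx 4, hZ.xx 3, tv hu hZu (c : K), 1], ?_, ?_, ?_⟩
  · intro i
    fin_cases i
    · exact hZ.det_xx hn 4
    · exact hZ.det_xx hn 3
    · exact tv_det hZ.two (hZ.sq 0) hu hZu _
    · exact map_one (LinearMap.det : R K V →* K)
  · intro i
    fin_cases i
    · exact hZ.isom_xx hτ 4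
    · exact hZ.isom_xx hτ 3
    · exact tv_isom hτ hu hZu (hZ.adj 0) (hZ.uu_adj hτ _ _) _
    · exact fun v w => rfl
  intro f hf hx
  have hfP := hSP hf
  have h0 := hx 0
  have h1 := hx 1
  have h2 := hx 2
  change cj K V (hZ.xx 4) * f * (cj K V (hZ.xx 4))⁻¹ ∈ S at h0
  change cj K V (hZ.xx 3) * f * (cj K V (hZ.xx 3))⁻¹ ∈ S at h1
  change cj K V (tv hu hZu c) * f * (cj K V (tv hu hZu c))⁻¹ ∈ S at h2
  have hfZ := hZ.fixed S hSP hS hG hf h0 h1
  obtain ⟨c', hc'⟩ := exists_center hfP (c : K)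
  -- the field automorphism is trivial
  have hcc : c' = c := by
    obtain ⟨π, ε, hε, h⟩ := hS _ h2
    have h3 := h 0
    have hfu : f (Z 1 + (α : K) • Z 2 + (β : K) • Z 3) = Z 1 + (α : K) • Z 2 + (β : K) • Z 3 := by
      have hz : ∀ (n : ℤ) (X : R K V), f ((n : K) • X) = (n : K) • f X := by
        intro n X
        rw [Int.cast_smul_eq_zsmul, Int.cast_smul_eq_zsmul]
        exact map_zsmul (AddMonoidHom.mk' f hfP.1) n X
      rw [hfP.1, hfP.1, hz, hz, hfZ, hfZ, hfZ]
    have hf2 : ∀ X, f ((2 : K) • X) = (2 : K) • f X := by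
      intro X
      rw [two_smul, two_smul, hfP.1]
    have h4 : (cj K V (tv hu hZu c) * f * (cj K V (tv hu hZu c))⁻¹) (Z 0) =
        Z 0 + (2 * (c' - c)) • (Z 1 + (α : K) • Z 2 + (β : K) • Z 3) := by
      rw [Equiv.Perm.mul_apply, Equiv.Perm.mul_apply, tv_Z_inv (hZ.sq 0), hfP.1, mul_smul, hf2, map_smul' hfP hc', hfu,
        hfZ]
      have h5 : ∀ (t : K) (X Y : R K V), cj K V (tv hu hZu c) (X + t • Y) =
          cj K V (tv hu hZu c) X + t • cj K V (tv hu hZu c) Y := by
        intro t X Y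
        simp only [cj_apply, mul_add, add_mul, mul_smul_comm, smul_mul_assoc]
      rw [smul_smul, h5, tv_u, tv_Z (hZ.sq 0), mul_sub, sub_smul]
      abel
    rw [h4] at h3
    have h6 : zz Z ![1, 2 * (c' - c), 2 * (c' - c) * α, 2 * (c' - c) * β, 0] =
        zz Z (fun k => if k = π 0 then (ε 0 : K) else 0) := by
      rw [← zz_single, ← h3]
      unfold zz
      rw [Fin.sum_univ_five]
      simp only [Matrix.cons_val_zero, Matrix.cons_val_one, Matrix.cons_val, smul_add, smul_smul, one_smul, zero_smul,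
        add_zero]
      abel
    have h7 := zz_inj hZ.indep h6
    have h8 := congrFun h7 0
    have h9 := congrFun h7 1
    simp only [Matrix.cons_val_zero, Matrix.cons_val_one] at h8 h9
    have h10 : π 0 = 0 := by
      by_contra hne
      rw [if_neg (Ne.symm hne)] at h8
      exact one_ne_zero h8
    rw [h10, if_neg (by decide)] at h9
    exact sub_eq_zero.1 ((mul_eq_zero.1 h9).resolve_left hZ.two)
  rw [hcc] at hc'
  -- all scalars are fixed
  have hsc : ∀ a : K, f (a • (1 : R K V)) = a • (1 : R K V) := by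
    intro a
    by_cases ha : a = 0
    · rw [ha, zero_smul, map_zero' hfP]
    · obtain ⟨n, hn⟩ := (mem_powers_iff_mem_zpowers (x := c)).2 (hc (Units.mk0 a ha))
      have h3 : a = (c : K) ^ n := by
        have := congrArg (Units.val) hn
        rw [Units.val_mk0] at this
        rw [← this]
        simp
      have h4 : a • (1 : R K V) = ((c : K) • (1 : R K V)) ^ n := by
        rw [smul_pow, one_pow, h3]
      rw [h4, map_pow' hfP, hc']
  -- everything is fixed
  apply Equiv.ext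
  intro X
  change f X = X
  have hX : X ∈ Algebra.adjoin K (Set.range Z) := by
    rw [hZ.gen]
    trivial
  induction hX using Algebra.adjoin_induction with
  | mem x hx =>
    obtain ⟨i, rfl⟩ := hx
    exact hfZ i
  | algebraMap a =>
    rw [Algebra.algebraMap_eq_smul_one]
    exact hsc a
  | add x y _ _ hx hy => rw [hfP.1, hx, hy]
  | mul x y _ _ hx hy => rw [hfP.2, hx, hy]

end Cfsg.Agent.H99.FC
end

-- part: H99/FC/S4
section
/-!
# S5764, StmtBC6 for `PSp_4`, `q` odd (helper99, task 5397)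

`A = 2^4`: the five self-adjoint classes `Z₀, …, Z₄` of `A` pairwise anticommute (an orthonormal frame of the orthogonal
space of dimension 5), `S` acts on them as a transitive solvable group of degree 5.  Final theorem: `bc6S4`.
-/

set_option autoImplicit false
set_option linter.unusedSectionVars false

namespace Cfsg.Agent.H99.FC

open Equiv

theorem perm5 (G : Subgroup (Perm (Fin 5))) (hG : Group.IsSolvable G) (ht : ∀ i j, ∃ g ∈ G, g i = j)
    {g : Perm (Fin 5)} (hg : g ∈ G) {i j : Fin 5} (hij : i ≠ j) (hi : g i = i) (hj : g j = j) : g = 1 := by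
  by_contra hne
  have : MulAction.IsPretransitive G (Fin 5) := ⟨fun i j => by
    obtain ⟨g, hg, h⟩ := ht i j
    exact ⟨⟨g, hg⟩, h⟩⟩
  have hprim : MulAction.IsPreprimitive G (Fin 5) := MulAction.IsPreprimitive.of_prime_card (by
    rw [Nat.card_eq_fintype_card, Fintype.card_fin]
    norm_num)
  have h1 : g.support ⊆ Finset.univ \ {i, j} := by
    intro k hk
    rw [Finset.mem_sdiff]
    refine ⟨Finset.mem_univ k, ?_⟩
    rw [Finset.mem_insert, Finset.mem_singleton]
    rintro (h | h)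
    · rw [h] at hk
      exact (Perm.mem_support.1 hk) hi
    · rw [h] at hk
      exact (Perm.mem_support.1 hk) hj
  have h2 : g.support.card ≤ 3 := by
    have h := Finset.card_le_card h1
    rw [Finset.card_sdiff_of_subset (Finset.subset_univ _), Finset.card_univ, Fintype.card_fin, Finset.card_pair hij] at h
    exact h
  have h3 : g.support.card ≠ 0 := by
    intro h
    rw [Finset.card_eq_zero, Perm.support_eq_empty_iff] at h
    exact hne h
  have h4 : g.support.card ≠ 1 := Perm.card_support_ne_one g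
  have hA : alternatingGroup (Fin 5) ≤ G := by
    have h5 : g.support.card = 2 ∨ g.support.card = 3 := by omega
    rcases h5 with h5 | h5
    · have h6 := Perm.subgroup_eq_top_of_isPreprimitive_of_isSwap_mem hprim g (Perm.card_support_eq_two.1 h5) hg
      rw [h6]
      exact le_top
    · exact Perm.alternatingGroup_le_of_isPreprimitive_of_isThreeCycle_mem hprim
        (card_support_eq_three_iff.1 h5) hg
  apply Equiv.Perm.not_isSolvable_fin_5
  have hA' : Group.IsSolvable (alternatingGroup (Fin 5)) :=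
    Group.isSolvable_of_isSolvable_injective (f := Subgroup.inclusion hA) (Subgroup.inclusion_injective hA)
  exact Group.isSolvable_of_ker_le_range (alternatingGroup (Fin 5)).subtype (Perm.sign (α := Fin 5)) (by
    rw [Subgroup.range_subtype]
    exact le_refl _)

theorem count16 {A : Type*} [CommGroup A] [Fintype A] (hA : Fintype.card A = 16) (e : A → ℤˣ) (χ : A → A → ℤˣ)
    (h1 : ∀ a b, e (a * b) = e a * e b * χ a b) (h2 : ∀ a b c, χ a (b * c) = χ a b * χ a c) (h3 : ∀ a : A, a * a = 1)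
    (h4 : ∀ a, a ≠ 1 → ∃ b, χ a b = -1) (h5 : (Finset.univ.filter fun a => e a = 1).card = 6) (h6 : ∀ a, χ a a = 1)
    (a b : A) (ha : a ≠ 1) (hb : b ≠ 1) (hab : a ≠ b) (hea : e a = 1) (heb : e b = 1) : χ a b = -1 := by
  classical
  by_contra hne
  have hpm : ∀ u : ℤˣ, u ≠ 1 → u = -1 := fun u h => (Int.units_eq_one_or u).resolve_left h
  have hpm' : ∀ u : ℤˣ, u ≠ -1 → u = 1 := fun u h => (Int.units_eq_one_or u).resolve_right h
  obtain ⟨b0, hb0⟩ := h4 a ha
  have he1 : e 1 = 1 := by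
    have h := h1 a a
    rw [h3, hea, h6] at h
    simpa using h
  have hx1 : χ a 1 = 1 := by
    have h := h2 a 1 1
    rw [mul_one] at h
    exact left_eq_mul.1 h
  -- `|N| = 8`
  have hN : (Finset.univ.filter fun x => χ a x = -1).card = (Finset.univ.filter fun x => ¬ χ a x = -1).card := by
    refine Finset.card_bij' (fun x _ => x * b0) (fun x _ => x * b0) ?_ ?_ ?_ ?_
    · intro x hx
      rw [Finset.mem_filter] at hx ⊢
      refine ⟨Finset.mem_univ _, ?_⟩
      rw [h2, hx.2, hb0]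
      decide
    · intro x hx
      rw [Finset.mem_filter] at hx ⊢
      refine ⟨Finset.mem_univ _, ?_⟩
      rw [h2, hpm' _ hx.2, hb0, one_mul]
    · intro x _
      change x * b0 * b0 = x
      rw [mul_assoc, h3, mul_one]
    · intro x _
      change x * b0 * b0 = x
      rw [mul_assoc, h3, mul_one]
  have hN8 : (Finset.univ.filter fun x => χ a x = -1).card = 8 := by
    have h := Finset.card_filter_add_card_filter_not (s := (Finset.univ : Finset A)) (fun x => χ a x = -1)
    rw [← hN, Finset.card_univ, hA] at h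
    omega
  -- `|N ∩ P| = 4`
  have hNP : ((Finset.univ.filter fun x => χ a x = -1).filter fun x => e x = 1).card =
      ((Finset.univ.filter fun x => χ a x = -1).filter fun x => ¬ e x = 1).card := by
    refine Finset.card_bij' (fun x _ => a * x) (fun x _ => a * x) ?_ ?_ ?_ ?_
    · intro x hx
      rw [Finset.mem_filter, Finset.mem_filter] at hx ⊢
      refine ⟨⟨Finset.mem_univ _, ?_⟩, ?_⟩
      · rw [h2, h6, hx.1.2, one_mul]
      · rw [h1, hea, hx.2, hx.1.2]
        decide
    · intro x hx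
      rw [Finset.mem_filter, Finset.mem_filter] at hx ⊢
      refine ⟨⟨Finset.mem_univ _, ?_⟩, ?_⟩
      · rw [h2, h6, hx.1.2, one_mul]
      · rw [h1, hea, hpm _ hx.2, hx.1.2]
        decide
    · intro x _
      change a * (a * x) = x
      rw [← mul_assoc, h3, one_mul]
    · intro x _
      change a * (a * x) = x
      rw [← mul_assoc, h3, one_mul]
  have hNP4 : ((Finset.univ.filter fun x => χ a x = -1).filter fun x => e x = 1).card = 4 := by
    have h := Finset.card_filter_add_card_filter_not (s := Finset.univ.filter fun x => χ a x = -1) (fun x => e x = 1)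
    rw [← hNP, hN8] at h
    omega
  have h7 : ((Finset.univ.filter fun x => e x = 1).filter fun x => ¬ χ a x = -1).card = 2 := by
    have h := Finset.card_filter_add_card_filter_not (s := Finset.univ.filter fun x => e x = 1) (fun x => χ a x = -1)
    rw [Finset.filter_comm, hNP4, h5] at h
    omega
  have h8 : ({1, a, b} : Finset A) ⊆ (Finset.univ.filter fun x => e x = 1).filter fun x => ¬ χ a x = -1 := by
    intro x hx
    rw [Finset.mem_filter, Finset.mem_filter]
    rw [Finset.mem_insert, Finset.mem_insert, Finset.mem_singleton] at hx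
    rcases hx with rfl | rfl | rfl
    · refine ⟨⟨Finset.mem_univ _, he1⟩, ?_⟩
      rw [hx1]; decide
    · refine ⟨⟨Finset.mem_univ _, hea⟩, ?_⟩
      rw [h6]; decide
    · exact ⟨⟨Finset.mem_univ _, heb⟩, hne⟩
  have h9 := Finset.card_le_card h8
  rw [h7, Finset.card_insert_of_notMem (by simp [ha.symm, hb.symm]), Finset.card_pair hab] at h9
  omega

end Cfsg.Agent.H99.FC

namespace Cfsg.Agent.H99.FC

open Module Cfsg.Agent.H198.FC

universe u v

variable {K : Type u} [Field K] {V : Type v} [AddCommGroup V] [Module K V]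

theorem center_smul (X : R K V) (h : ∀ Y : R K V, Y * X = X * Y) : ∃ c : K, X = c • (1 : R K V) := by
  have h1 : X ∈ Set.center (Module.End K V) := Semigroup.mem_center_iff.2 h
  obtain ⟨α, hα, h⟩ := Module.End.mem_center_iff.1 h1
  refine ⟨α, ?_⟩
  rw [h]
  ext v
  rfl

theorem cj_eq [Nontrivial V] {x y : (R K V)ˣ} (h : cj K V x = cj K V y) :
    ∃ c : K, c ≠ 0 ∧ (x : R K V) = c • (y : R K V) := by
  have h1 : ∀ Y : R K V, Y * ((y⁻¹ * x : (R K V)ˣ) : R K V) = ((y⁻¹ * x : (R K V)ˣ) : R K V) * Y := by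
    intro Y
    have h2 := Equiv.congr_fun h Y
    rw [cj_apply, cj_apply] at h2
    rw [Units.val_mul]
    have h3 : (x : R K V) * Y = y * Y * (y⁻¹ : (R K V)ˣ) * x := by
      rw [← h2, mul_assoc, Units.inv_mul, mul_one]
    rw [mul_assoc, h3]
    simp only [← mul_assoc, Units.inv_mul, one_mul]
  obtain ⟨c, hc⟩ := center_smul _ h1
  refine ⟨c, ?_, ?_⟩
  · rintro rfl
    rw [zero_smul] at hc
    exact (y⁻¹ * x).ne_zero hc
  · have h4 : (x : R K V) = y * ((y⁻¹ * x : (R K V)ˣ) : R K V) := by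
      rw [← Units.val_mul, mul_inv_cancel_left]
    rw [h4, hc, mul_smul_comm, mul_one]

theorem cj_smul {x y : (R K V)ˣ} {c : K} (h : (x : R K V) = c • (y : R K V)) : cj K V x = cj K V y := by
  apply Equiv.ext
  intro X
  rw [cj_apply, cj_apply]
  by_cases hc : c = 0
  · rw [hc, zero_smul] at h
    have h1 : (1 : R K V) = 0 := by rw [← x.mul_inv, h, zero_mul]
    have h2 : ∀ Y : R K V, Y = 0 := fun Y => by rw [← mul_one Y, h1, mul_zero]
    rw [h2 (_ * _ * _)]
    exact (h2 _).symm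
  · have h3 : ((x⁻¹ : (R K V)ˣ) : R K V) = c⁻¹ • ((y⁻¹ : (R K V)ˣ) : R K V) := by
      have h4 : (x : R K V) * (c⁻¹ • ((y⁻¹ : (R K V)ˣ) : R K V)) = 1 := by
        rw [h, smul_mul_smul_comm, mul_inv_cancel₀ hc, one_smul, Units.mul_inv]
      rw [← mul_one ((x⁻¹ : (R K V)ˣ) : R K V), ← h4, ← mul_assoc, Units.inv_mul, one_mul]
    rw [h3, h]
    simp only [smul_mul_assoc, mul_smul_comm, smul_smul]
    rw [inv_mul_cancel₀ hc, one_smul]

/-- the unit `f x` -/
def mapU {f : Equiv.Perm (R K V)} (hf : f ∈ RP K V) (x : (R K V)ˣ) : (R K V)ˣ where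
  val := f x
  inv := f ((x⁻¹ : (R K V)ˣ) : R K V)
  val_inv := by rw [← hf.2, Units.mul_inv, map_one' hf]
  inv_val := by rw [← hf.2, Units.inv_mul, map_one' hf]

theorem cj_mapU {f : Equiv.Perm (R K V)} (hf : f ∈ RP K V) (x : (R K V)ˣ) :
    cj K V (mapU hf x) = f * cj K V x * f⁻¹ := by
  apply Equiv.ext
  intro X
  obtain ⟨Y, rfl⟩ := f.surjective X
  have h : f⁻¹ (f Y) = Y := f.symm_apply_apply Y
  rw [Equiv.Perm.mul_apply, Equiv.Perm.mul_apply, h, cj_apply, cj_apply, hf.2, hf.2]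
  rfl

section lift

variable [Nontrivial V]

/-- two commuting elements of `PGL(V)` of order 2: the lifts commute or anticommute -/
theorem comm_or {x y : (R K V)ˣ} (hxy : cj K V x * cj K V y = cj K V y * cj K V x) (hx : cj K V x ^ 2 = 1) :
    (x : R K V) * y = y * x ∨ (x : R K V) * y = -(y * x) := by
  rw [← map_mul, ← map_mul] at hxy
  obtain ⟨c, hc, h⟩ := cj_eq hxy
  rw [← map_pow, ← map_one (cj K V)] at hx
  obtain ⟨d, hd, h'⟩ := cj_eq hx
  rw [Units.val_mul, Units.val_mul] at h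
  rw [Units.val_pow_eq_pow_val, Units.val_one] at h'
  have h1 : (x : R K V) ^ 2 * y = (c * c) • (y * (x : R K V) ^ 2) := by
    rw [pow_two, mul_assoc, h, mul_smul_comm, ← mul_assoc, h, smul_mul_assoc, smul_smul, mul_assoc]
  rw [h', smul_mul_assoc, one_mul, mul_smul_comm, mul_one, smul_smul] at h1
  have h2 : (d - c * c * d) • (y : R K V) = 0 := by
    rw [sub_smul, ← h1, sub_self]
  have h3 := (smul_eq_zero.1 h2).resolve_right y.ne_zero
  have h4 : (c - 1) * (c + 1) = 0 := by
    have h5 : d * ((c - 1) * (c + 1)) = 0 := by linear_combination -h3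
    exact (mul_eq_zero.1 h5).resolve_left hd
  rcases mul_eq_zero.1 h4 with h5 | h5
  · left
    rw [h, sub_eq_zero.1 h5, one_smul]
  · right
    rw [h, eq_neg_of_add_eq_zero_left h5, neg_smul, one_smul]

theorem sq_smul {x : (R K V)ˣ} (hx : cj K V x ^ 2 = 1) : ∃ d : K, d ≠ 0 ∧ (x : R K V) * x = d • (1 : R K V) := by
  rw [← map_pow, ← map_one (cj K V)] at hx
  obtain ⟨d, hd, h'⟩ := cj_eq hx
  rw [Units.val_pow_eq_pow_val, Units.val_one, pow_two] at h'
  exact ⟨d, hd, h'⟩

/-- self-adjoint or skew-adjoint -/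
theorem adj_or [Finite K] [FiniteDimensional K V] {b : Cl K V} (hb : ∀ a, b.τ a = a) {x : (R K V)ˣ}
    (hx : cj K V x ^ 2 = 1) (hxb : cj K V x ∈ RB b) :
    b.Adj (x : R K V) (x : R K V) ∨ b.Adj (x : R K V) (-(x : R K V)) := by
  obtain ⟨d, hd, hdx⟩ := sq_smul hx
  obtain ⟨X', hX'⟩ := H886.FC.exists_adj b (x : R K V)
  obtain ⟨Y', hY'⟩ := H886.FC.exists_adj b ((x⁻¹ : (R K V)ˣ) : R K V)
  have hYX : Y' * X' = 1 := by
    refine H886.FC.adj_unique b (H886.FC.adj_mul b hX' hY') ?_
    rw [Units.mul_inv]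
    exact adj_one
  have h1 : ∀ Y : R K V, Y * (X' * x) = X' * x * Y := by
    intro Y
    obtain ⟨Z, hZ⟩ := H886.FC.exists_adj b Y
    have h2 := (hxb.2 Z Y).1 (H886.FC.adj_symm b hZ)
    rw [cj_apply, cj_apply] at h2
    have h3 : b.Adj ((x : R K V) * Z * ((x⁻¹ : (R K V)ˣ) : R K V)) (Y' * (Y * X')) :=
      H886.FC.adj_mul b (H886.FC.adj_mul b hX' (H886.FC.adj_symm b hZ)) hY'
    have h4 := H886.FC.adj_unique b h2 h3
    have h5 : X' * ((x : R K V) * Y * ((x⁻¹ : (R K V)ˣ) : R K V)) * x = X' * (Y' * (Y * X')) * x := by rw [h4]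
    have h6 : X' * Y' = 1 := by
      refine H886.FC.adj_unique b (H886.FC.adj_mul b hY' hX') ?_
      rw [Units.inv_mul]
      exact adj_one
    rw [← mul_assoc X' Y', h6, one_mul] at h5
    rw [← mul_assoc, ← h5]
    simp only [mul_assoc, Units.inv_mul, mul_one]
  obtain ⟨μ, hμ⟩ := center_smul _ h1
  have h2 : X' = (μ * d⁻¹) • (x : R K V) := by
    have h3 : X' * x * x = d • X' := by rw [mul_assoc, hdx, mul_smul_comm, mul_one]
    rw [hμ, smul_mul_assoc, one_mul] at h3
    rw [mul_comm, mul_smul, h3, smul_smul, inv_mul_cancel₀ hd, one_smul]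
  set e : K := μ * d⁻¹ with he
  have h3 : e * e = 1 := by
    have h4 : b.Adj X' (e • X') := by
      rw [h2]
      have := adj_smul hb hX' e
      rw [h2] at this
      exact this
    have h5 := H886.FC.adj_unique b h4 (H886.FC.adj_symm b hX')
    rw [h2, smul_smul] at h5
    have h6 : (e * e - 1) • (x : R K V) = 0 := by rw [sub_smul, one_smul, h5, sub_self]
    exact sub_eq_zero.1 ((smul_eq_zero.1 h6).resolve_right x.ne_zero)
  have h4 : (e - 1) * (e + 1) = 0 := by linear_combination h3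
  rcases mul_eq_zero.1 h4 with h5 | h5
  · left
    rw [sub_eq_zero.1 h5, one_smul] at h2
    rw [h2] at hX'
    exact hX'
  · right
    rw [eq_neg_of_add_eq_zero_left h5, neg_smul, one_smul] at h2
    rw [h2] at hX'
    exact hX'

end lift

/-! ### the lifts -/

/-- the data -/
structure Lf (b : Cl K V) (A : Subgroup (Equiv.Perm (R K V))) (L : A → (R K V)ˣ) : Prop where
  tau : ∀ a, b.τ a = a
  alt : ∀ v, b.B v v = 0
  fin : Module.finrank K V = 4
  cj : ∀ a, H198.FC.cj K V (L a) = a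
  sq : ∀ a : A, a * a = 1
  comm : ∀ a c : A, a * c = c * a
  rb : A ≤ RB b
  span : Submodule.span K (Set.range fun a => (L a : R K V)) = ⊤
  card : Nat.card A = 16

theorem two_ne_zero_of {b : Cl K V} {A : Subgroup (Equiv.Perm (R K V))} {L : A → (R K V)ˣ} (h : Lf b A L) [Nontrivial V] :
    (2 : K) ≠ 0 := by
  intro h2
  have hcom : ∀ a c : A, (L a : R K V) * L c = L c * L a := by
    intro a c
    rcases comm_or (x := L a) (y := L c) (by
      rw [h.cj, h.cj]
      exact congrArg Subtype.val (h.comm a c)) (by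
        rw [h.cj, pow_two]
        exact congrArg Subtype.val (h.sq a)) with h1 | h1
    · exact h1
    · rw [h1]
      have h3 : (2 : K) • ((L c : R K V) * L a) = 0 := by rw [h2, zero_smul]
      rw [two_smul] at h3
      exact neg_eq_of_add_eq_zero_left h3
  have hone : ∀ a : A, a = 1 := by
    intro a
    have h1 : ∀ Y : R K V, Y * (L a : R K V) = (L a : R K V) * Y := by
      intro Y
      have hY : Y ∈ Submodule.span K (Set.range fun a => (L a : R K V)) := by
        rw [h.span]; trivial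
      induction hY using Submodule.span_induction with
      | mem x hx =>
        obtain ⟨c, rfl⟩ := hx
        exact hcom c a
      | zero => rw [zero_mul, mul_zero]
      | add x y _ _ hx hy => rw [add_mul, mul_add, hx, hy]
      | smul t x _ hx => rw [smul_mul_assoc, mul_smul_comm, hx]
    obtain ⟨c, hc⟩ := center_smul _ h1
    have h2 : cj K V (L a) = cj K V 1 := cj_smul (c := c) (by rw [hc, Units.val_one])
    rw [h.cj, map_one] at h2
    exact Subtype.ext h2
  have h3 : Nat.card A ≤ 1 := by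
    have : Subsingleton A := ⟨fun a c => by rw [hone a, hone c]⟩
    exact Finite.card_le_one_iff_subsingleton.2 this
  rw [h.card] at h3
  omega

namespace Lf

variable [Nontrivial V] [Finite K] [FiniteDimensional K V] {b : Cl K V} {A : Subgroup (Equiv.Perm (R K V))}
  {L : A → (R K V)ˣ} (h : Lf b A L)
include h

theorem pow_two (a : A) : H198.FC.cj K V (L a) ^ 2 = 1 := by
  rw [h.cj, _root_.pow_two]
  exact congrArg Subtype.val (h.sq a)

theorem com_or (a c : A) : (L a : R K V) * L c = L c * L a ∨ (L a : R K V) * L c = -(L c * L a) :=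
  comm_or (by
    rw [h.cj, h.cj]
    exact congrArg Subtype.val (h.comm a c)) (h.pow_two a)

theorem two : (2 : K) ≠ 0 := two_ne_zero_of h

theorem ne_neg {X : R K V} (hX : X ≠ 0) : X ≠ -X := by
  intro h1
  have h2 : (2 : K) • X = 0 := by
    rw [two_smul]
    nth_rw 2 [h1]
    rw [add_neg_cancel]
  exact hX ((smul_eq_zero.1 h2).resolve_left h.two)

open Classical in
/-- the commutator form -/
noncomputable def chi (_ : Lf b A L) (a c : A) : ℤˣ := if (L a : R K V) * L c = L c * L a then 1 else -1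

open Classical in
/-- the type -/
noncomputable def ee (_ : Lf b A L) (a : A) : ℤˣ := if b.Adj (L a : R K V) (L a : R K V) then 1 else -1

theorem chi_eq (a c : A) : (L a : R K V) * L c = (((h.chi a c : ℤˣ) : ℤ) : K) • ((L c : R K V) * L a) := by
  unfold chi
  split_ifs with h1
  · rw [h1]; simp
  · rw [(h.com_or a c).resolve_left h1]; simp

theorem ee_adj (a : A) : b.Adj (L a : R K V) ((((h.ee a : ℤˣ) : ℤ) : K) • (L a : R K V)) := by
  unfold ee
  split_ifs with h1
  · simpa using h1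
  · have h2 := (adj_or h.tau (h.pow_two a) (h.rb (by rw [h.cj]; exact a.2))).resolve_left h1
    simpa using h2

theorem cast_inj {u w : ℤˣ} (huw : ((u : ℤ) : K) = ((w : ℤ) : K)) : u = w := by
  rcases Int.units_eq_one_or u with rfl | rfl <;> rcases Int.units_eq_one_or w with rfl | rfl
  · rfl
  · exfalso
    apply h.two
    have h2 : (1 : K) = -1 := by simpa using huw
    have h3 : (2 : K) = 1 - (-1) := by norm_num
    rw [h3, ← h2, sub_self]
  · exfalso
    apply h.two
    have h2 : (-1 : K) = 1 := by simpa using huw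
    have h3 : (2 : K) = 1 - (-1) := by norm_num
    rw [h3, h2, sub_self]
  · rfl

theorem mul_eq (a c : A) : ∃ t : K, t ≠ 0 ∧ (L (a * c) : R K V) = t • ((L a : R K V) * L c) := by
  have h1 : H198.FC.cj K V (L (a * c)) = H198.FC.cj K V (L a * L c) := by
    rw [h.cj, map_mul, h.cj, h.cj]
    rfl
  obtain ⟨t, ht, h2⟩ := cj_eq h1
  exact ⟨t, ht, h2⟩

theorem chi_of {a c : A} {u : ℤˣ} (hu : (L a : R K V) * L c = ((u : ℤ) : K) • ((L c : R K V) * L a)) :
    h.chi a c = u := by
  apply h.cast_inj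
  have h1 := h.chi_eq a c
  rw [hu] at h1
  have h2 : (L c : R K V) * L a ≠ 0 := by
    rw [← Units.val_mul]
    exact Units.ne_zero _
  have h3 : (((u : ℤ) : K) - (((h.chi a c : ℤˣ) : ℤ) : K)) • ((L c : R K V) * L a) = 0 := by
    rw [sub_smul, h1, sub_self]
  exact (sub_eq_zero.1 ((smul_eq_zero.1 h3).resolve_right h2)).symm

theorem chi_self (a : A) : h.chi a a = 1 := h.chi_of (by simp)

theorem chi_mul (a c d : A) : h.chi a (c * d) = h.chi a c * h.chi a d := by
  apply h.chi_of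
  obtain ⟨t, ht, h1⟩ := h.mul_eq c d
  rw [h1, mul_smul_comm, smul_mul_assoc, ← mul_assoc, h.chi_eq a c, smul_mul_assoc, mul_assoc, h.chi_eq a d,
    mul_smul_comm, smul_smul, smul_smul, smul_smul, mul_assoc]
  push_cast
  congr 1
  ring

theorem ee_mul (a c : A) : h.ee (a * c) = h.ee a * h.ee c * h.chi a c := by
  apply h.cast_inj
  obtain ⟨t, ht, h1⟩ := h.mul_eq a c
  have h2 : b.Adj (t • ((L a : R K V) * L c)) (t • (((((h.ee c : ℤˣ) : ℤ) : K) • (L c : R K V)) *
      ((((h.ee a : ℤˣ) : ℤ) : K) • (L a : R K V)))) := adj_smul h.tau (adj_mul (h.ee_adj a) (h.ee_adj c)) t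
  have h3 := h.ee_adj (a * c)
  rw [h1] at h3
  have h4 := H886.FC.adj_unique b h3 h2
  rw [h.chi_eq a c] at h4
  have h6 : (t * (((h.ee (a * c) : ℤˣ) : ℤ) * ((h.chi a c : ℤˣ) : ℤ) - ((h.ee a : ℤˣ) : ℤ) * ((h.ee c : ℤˣ) : ℤ) : K)) •
      ((L c : R K V) * L a) = 0 := by
    rw [smul_mul_smul_comm] at h4
    simp only [smul_smul] at h4
    rw [← sub_eq_zero, ← sub_smul] at h4
    rw [← h4]
    congr 1
    ring
  have h7 : (L c : R K V) * L a ≠ 0 := by
    rw [← Units.val_mul]
    exact Units.ne_zero _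
  have h8 := ((mul_eq_zero.1 ((smul_eq_zero.1 h6).resolve_right h7)).resolve_left ht)
  have h9 : (((h.chi a c : ℤˣ) : ℤ) : K) * (((h.chi a c : ℤˣ) : ℤ) : K) = 1 := by
    rcases Int.units_eq_one_or (h.chi a c) with h | h <;> rw [h] <;> simp
  push_cast
  linear_combination (((h.chi a c : ℤˣ) : ℤ) : K) * h8 - (((h.ee (a * c) : ℤˣ) : ℤ) : K) * h9

theorem exists_chi (a : A) (ha : a ≠ 1) : ∃ c, h.chi a c = -1 := by
  by_contra hne
  push Not at hne
  apply ha
  have h1 : ∀ Y : R K V, Y * (L a : R K V) = (L a : R K V) * Y := by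
    intro Y
    have hY : Y ∈ Submodule.span K (Set.range fun a => (L a : R K V)) := by
      rw [h.span]; trivial
    induction hY using Submodule.span_induction with
    | mem x hx =>
      obtain ⟨c, rfl⟩ := hx
      have h2 := h.chi_eq a c
      rw [(Int.units_eq_one_or _).resolve_right (hne c)] at h2
      simpa using h2.symm
    | zero => rw [zero_mul, mul_zero]
    | add x y _ _ hx hy => rw [add_mul, mul_add, hx, hy]
    | smul t x _ hx => rw [smul_mul_assoc, mul_smul_comm, hx]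
  obtain ⟨c, hc⟩ := center_smul _ h1
  have h2 : H198.FC.cj K V (L a) = H198.FC.cj K V 1 := cj_smul (c := c) (by rw [hc, Units.val_one])
  rw [h.cj, map_one] at h2
  exact Subtype.ext h2

/-! ### counting -/

theorem indep [Fintype A] : LinearIndependent K (fun a : A => (L a : R K V)) := by
  apply linearIndependent_of_top_le_span_of_card_eq_finrank (le_of_eq h.span.symm)
  rw [← Nat.card_eq_fintype_card, h.card, Module.finrank_linearMap, h.fin]

theorem B_swap (v w : V) : b.B v w = - b.B w v := by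
  have h1 := h.alt (v + w)
  rw [b.add_left, b.add_right, b.add_right, h.alt, h.alt, zero_add, add_zero] at h1
  exact eq_neg_of_add_eq_zero_left h1

theorem B_sum_right (v : V) {ι : Type*} (s : Finset ι) (w : ι → V) :
    b.B v (∑ i ∈ s, w i) = ∑ i ∈ s, b.B v (w i) := by
  classical
  induction s using Finset.induction_on with
  | empty => rw [Finset.sum_empty, Finset.sum_empty, H886.FC.B_zero_right]
  | insert a s ha ih => rw [Finset.sum_insert ha, Finset.sum_insert ha, b.add_right, ih]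

/-- `X = 0` if all `b(X eᵢ, eⱼ) = 0` -/
theorem eq_zero_of (e : Basis (Fin 4) K V) {X : R K V} (hX : ∀ i j, b.B (X (e i)) (e j) = 0) : X = 0 := by
  apply e.ext
  intro i
  rw [LinearMap.zero_apply]
  apply b.nondeg
  intro w
  rw [← e.sum_repr w, h.B_sum_right]
  apply Finset.sum_eq_zero
  intro j _
  rw [b.smul_right, hX, mul_zero]

/-- the coordinates -/
noncomputable def psi (_ : Lf b A L) (e : Basis (Fin 4) K V) (I : Finset (Fin 4 × Fin 4)) : R K V →ₗ[K] (I → K) where
  toFun X p := b.B (X (e p.1.1)) (e p.1.2)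
  map_add' X Y := by
    funext p
    change b.B (X _ + Y _) _ = _
    rw [b.add_left]
    rfl
  map_smul' c X := by
    funext p
    change b.B (c • X _) _ = _
    rw [b.smul_left]
    rfl

theorem card_le [Fintype A] (s : ℤˣ) (I : Finset (Fin 4 × Fin 4))
    (hI : ∀ X : R K V, b.Adj X (((s : ℤ) : K) • X) → ∀ e : Basis (Fin 4) K V,
      (∀ p ∈ I, b.B (X (e p.1)) (e p.2) = 0) → X = 0) :
    (Finset.univ.filter fun a : A => h.ee a = s).card ≤ I.card := by
  classical
  let e := Module.finBasisOfFinrankEq K V h.fin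
  let v : {a : A // h.ee a = s} → R K V := fun a => (L a.1 : R K V)
  have hv : LinearIndependent K v := h.indep.comp (fun a : {a : A // h.ee a = s} => a.1) Subtype.val_injective
  have hadj : ∀ X ∈ Submodule.span K (Set.range v), b.Adj X (((s : ℤ) : K) • X) := by
    intro X hX
    induction hX using Submodule.span_induction with
    | mem x hx =>
      obtain ⟨a, rfl⟩ := hx
      have h1 := h.ee_adj a.1
      rw [a.2] at h1
      exact h1
    | zero =>
      intro v w
      rw [smul_zero]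
      change b.B 0 w = b.B v 0
      rw [H886.FC.B_zero_left, H886.FC.B_zero_right]
    | add x y _ _ hx hy =>
      rw [smul_add]
      exact adj_add hx hy
    | smul t x _ hx =>
      rw [smul_comm]
      exact adj_smul h.tau hx t
  have hdis : Disjoint (Submodule.span K (Set.range v)) (LinearMap.ker (h.psi e I)) := by
    rw [Submodule.disjoint_def]
    intro X hX hX'
    apply hI X (hadj X hX) e
    intro p hp
    have h1 := congrFun (LinearMap.mem_ker.1 hX') ⟨p, hp⟩
    exact h1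
  have h2 := (hv.map hdis).fintype_card_le_finrank
  rw [Module.finrank_pi, Fintype.card_coe, Fintype.card_subtype] at h2
  exact h2

theorem card_six [Fintype A] : (Finset.univ.filter fun a : A => h.ee a = 1).card = 6 := by
  classical
  have h1 := h.card_le 1 (Finset.univ.filter fun p : Fin 4 × Fin 4 => p.1 < p.2) (by
    intro X hX e hp
    have hX' : ∀ v w, b.B (X v) w = - b.B (X w) v := by
      intro v w
      rw [hX w v, h.B_swap w]
      simp
    apply h.eq_zero_of e
    intro i j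
    rcases lt_trichotomy i j with hij | hij | hij
    · exact hp (i, j) (Finset.mem_filter.2 ⟨Finset.mem_univ _, hij⟩)
    · subst hij
      have h2 := hX' (e i) (e i)
      by_contra hne
      exact h.two (by
        have h3 : (2 : K) * b.B (X (e i)) (e i) = 0 := by
          rw [two_mul]
          nth_rw 1 [h2]
          rw [neg_add_cancel]
        exact (mul_eq_zero.1 h3).resolve_right hne)
    · rw [hX', hp (j, i) (Finset.mem_filter.2 ⟨Finset.mem_univ _, hij⟩), neg_zero])
  have h2 := h.card_le (-1) (Finset.univ.filter fun p : Fin 4 × Fin 4 => p.1 ≤ p.2) (by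
    intro X hX e hp
    have hX' : ∀ v w, b.B (X v) w = b.B (X w) v := by
      intro v w
      rw [hX w v, h.B_swap w]
      simp only [Units.val_neg, Units.val_one, Int.cast_neg, Int.cast_one, neg_smul, one_smul, LinearMap.neg_apply]
      have h3 : -X v = (-1 : K) • X v := by rw [neg_smul, one_smul]
      rw [h3, b.smul_left]
      ring
    apply h.eq_zero_of e
    intro i j
    rcases le_total i j with hij | hij
    · exact hp (i, j) (Finset.mem_filter.2 ⟨Finset.mem_univ _, hij⟩)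
    · rw [hX', hp (j, i) (Finset.mem_filter.2 ⟨Finset.mem_univ _, hij⟩)])
  have h3 : (Finset.univ.filter fun p : Fin 4 × Fin 4 => p.1 < p.2).card = 6 := by decide
  have h4 : (Finset.univ.filter fun p : Fin 4 × Fin 4 => p.1 ≤ p.2).card = 10 := by decide
  rw [h3] at h1
  rw [h4] at h2
  have h5 := Finset.card_filter_add_card_filter_not (s := (Finset.univ : Finset A)) (fun a => h.ee a = 1)
  have h6 : (Finset.univ.filter fun a : A => ¬ h.ee a = 1) = Finset.univ.filter fun a : A => h.ee a = -1 := by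
    ext a
    simp only [Finset.mem_filter, Finset.mem_univ, true_and]
    constructor
    · exact fun h1 => (Int.units_eq_one_or _).resolve_left h1
    · intro h1
      rw [h1]
      decide
  rw [h6, Finset.card_univ, ← Nat.card_eq_fintype_card, h.card] at h5
  omega

end Lf

/-- the group -/
structure Gp (b : Cl K V) (A S : Subgroup (Equiv.Perm (R K V))) : Prop where
  rb : S ≤ RB b
  le : A ≤ S
  sol : Group.IsSolvable S
  norm : ∀ g ∈ S, ∀ f ∈ A, g * f * g⁻¹ ∈ A
  min : ∀ B : Subgroup (Equiv.Perm (R K V)), B ≤ A → (∀ g ∈ S, ∀ f ∈ B, g * f * g⁻¹ ∈ B) → B = ⊥ ∨ B = A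

/-- conjugation -/
def Gp.cjA {b : Cl K V} {A S : Subgroup (Equiv.Perm (R K V))} (hS : Gp b A S) (f : S) (a : A) : A :=
  ⟨f * a * (f : Equiv.Perm (R K V))⁻¹, hS.norm f f.2 a a.2⟩

namespace Lf

variable [Nontrivial V] [Finite K] [FiniteDimensional K V] {b : Cl K V} {A : Subgroup (Equiv.Perm (R K V))}
  {L : A → (R K V)ˣ} (h : Lf b A L) {S : Subgroup (Equiv.Perm (R K V))} (hS : Gp b A S)
include h

theorem map_L (f : S) (a : A) : ∃ t : K, t ≠ 0 ∧ (f : Equiv.Perm (R K V)) (L a : R K V) = t • (L (hS.cjA f a) : R K V) := by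
  have h1 : H198.FC.cj K V (mapU (hS.rb f.2).1 (L a)) = H198.FC.cj K V (L (hS.cjA f a)) := by
    rw [cj_mapU, h.cj, h.cj]
    rfl
  obtain ⟨t, ht, h2⟩ := cj_eq h1
  exact ⟨t, ht, h2⟩

theorem map_sgn {f : Equiv.Perm (R K V)} (hf : f ∈ RP K V) (u : ℤˣ) (X : R K V) :
    f (((u : ℤ) : K) • X) = ((u : ℤ) : K) • f X := by
  rw [Int.cast_smul_eq_zsmul, Int.cast_smul_eq_zsmul]
  exact map_zsmul (AddMonoidHom.mk' f hf.1) (u : ℤ) X

theorem ee_cj (f : S) (a : A) : h.ee (hS.cjA f a) = h.ee a := by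
  obtain ⟨t, ht, h1⟩ := h.map_L hS f a
  have h2 := ((hS.rb f.2).2 _ _).1 (h.ee_adj a)
  rw [h.map_sgn (hS.rb f.2).1, h1] at h2
  have h3 := adj_smul h.tau h2 t⁻¹
  have e1 : ∀ X : R K V, t⁻¹ • t • X = X := fun X => by rw [smul_smul, inv_mul_cancel₀ ht, one_smul]
  rw [e1, smul_comm t⁻¹, e1] at h3
  apply h.cast_inj
  have h4 := H886.FC.adj_unique b (h.ee_adj (hS.cjA f a)) h3
  have h5 : ((((h.ee (hS.cjA f a) : ℤˣ) : ℤ) : K) - (((h.ee a : ℤˣ) : ℤ) : K)) • (L (hS.cjA f a) : R K V) = 0 := by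
    rw [sub_smul, h4, sub_self]
  exact sub_eq_zero.1 ((smul_eq_zero.1 h5).resolve_right (Units.ne_zero _))

/-- the five points -/
def Om : Type _ := {a : A // a ≠ 1 ∧ h.ee a = 1}

theorem finA : Finite A := Nat.finite_of_card_ne_zero (by rw [h.card]; decide)

theorem anti {x y : h.Om} (hxy : x ≠ y) : h.chi x.1 y.1 = -1 := by
  classical
  have := h.finA
  have : Fintype A := Fintype.ofFinite A
  let _ : CommGroup A := { (inferInstance : Group A) with mul_comm := h.comm }
  exact count16 (by rw [← Nat.card_eq_fintype_card, h.card]) h.ee h.chi h.ee_mul h.chi_mul h.sq h.exists_chi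
    (by convert h.card_six) h.chi_self x.1 y.1 x.2.1 y.2.1 (fun he => hxy (Subtype.ext he)) x.2.2 y.2.2

theorem card_om : Nat.card h.Om = 5 := by
  classical
  have := h.finA
  have : Fintype A := Fintype.ofFinite A
  have h1 := h.card_six
  have he1 : h.ee 1 = 1 := by
    have h2 := h.ee_mul 1 1
    rw [mul_one, h.chi_self, mul_one] at h2
    exact left_eq_mul.1 h2
  have h2 : (Finset.univ.filter fun a : A => a ≠ 1 ∧ h.ee a = 1) = (Finset.univ.filter fun a : A => h.ee a = 1).erase 1 := by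
    ext a
    simp only [Finset.mem_filter, Finset.mem_univ, true_and, Finset.mem_erase]
  unfold Om
  rw [Nat.card_eq_fintype_card, Fintype.card_subtype, h2, Finset.card_erase_of_mem (by simp [he1]), h1]

/-- the action -/
def act : S →* Equiv.Perm h.Om where
  toFun f :=
    { toFun := fun x => ⟨hS.cjA f x.1, by
        refine ⟨?_, by rw [h.ee_cj hS, x.2.2]⟩
        intro h1
        apply x.2.1
        have h2 := congrArg Subtype.val h1
        change (f : Equiv.Perm (R K V)) * (x.1 : Equiv.Perm (R K V)) * (f : Equiv.Perm (R K V))⁻¹ = 1 at h2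
        rw [mul_inv_eq_one] at h2
        exact Subtype.ext (mul_eq_left.1 h2)⟩
      invFun := fun x => ⟨hS.cjA f⁻¹ x.1, by
        refine ⟨?_, by rw [h.ee_cj hS, x.2.2]⟩
        intro h1
        apply x.2.1
        have h2 := congrArg Subtype.val h1
        change (f⁻¹ : Equiv.Perm (R K V)) * (x.1 : Equiv.Perm (R K V)) * (f⁻¹ : Equiv.Perm (R K V))⁻¹ = 1 at h2
        rw [mul_inv_eq_one] at h2
        exact Subtype.ext (mul_eq_left.1 h2)⟩
      left_inv := fun x => by
        apply Subtype.ext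
        apply Subtype.ext
        change (f : Equiv.Perm (R K V))⁻¹ * ((f : Equiv.Perm (R K V)) * x.1 * (f : Equiv.Perm (R K V))⁻¹) *
          ((f : Equiv.Perm (R K V))⁻¹)⁻¹ = x.1
        group
      right_inv := fun x => by
        apply Subtype.ext
        apply Subtype.ext
        change (f : Equiv.Perm (R K V)) * ((f : Equiv.Perm (R K V))⁻¹ * x.1 * ((f : Equiv.Perm (R K V))⁻¹)⁻¹) *
          (f : Equiv.Perm (R K V))⁻¹ = x.1
        group }
  map_one' := by
    apply Equiv.ext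
    intro x
    apply Subtype.ext
    apply Subtype.ext
    change (1 : Equiv.Perm (R K V)) * (x.1 : Equiv.Perm (R K V)) * (1 : Equiv.Perm (R K V))⁻¹ = x.1
    group
  map_mul' f g := by
    apply Equiv.ext
    intro x
    apply Subtype.ext
    apply Subtype.ext
    change ((f : Equiv.Perm (R K V)) * g) * x.1 * ((f : Equiv.Perm (R K V)) * g)⁻¹ =
      f * (g * x.1 * (g : Equiv.Perm (R K V))⁻¹) * (f : Equiv.Perm (R K V))⁻¹
    group

theorem act_val (f : S) (x : h.Om) : (h.act hS f x).1 = hS.cjA f x.1 := rfl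

/-- fixed elements of `A` are trivial -/
theorem eq_one_of_fix (a : A) (ha : ∀ f : S, hS.cjA f a = a) : a = 1 := by
  have h1 := hS.min (Subgroup.zpowers (a : Equiv.Perm (R K V))) (by
    rw [Subgroup.zpowers_le]
    exact a.2) (by
    rintro g hg _ ⟨n, rfl⟩
    have h2 : g * (a : Equiv.Perm (R K V)) * g⁻¹ = a := congrArg Subtype.val (ha ⟨g, hg⟩)
    refine ⟨n, ?_⟩
    change _ = g * (a : Equiv.Perm (R K V)) ^ n * g⁻¹
    rw [← conj_zpow, h2])
  rcases h1 with h1 | h1
  · rw [Subgroup.zpowers_eq_bot] at h1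
    exact Subtype.ext h1
  · exfalso
    have h2 := h.card
    have h3 : orderOf (a : Equiv.Perm (R K V)) ≤ 2 := by
      apply orderOf_le_of_pow_eq_one (by norm_num)
      rw [_root_.pow_two]
      exact congrArg Subtype.val (h.sq a)
    have h4 : Nat.card (Subgroup.zpowers (a : Equiv.Perm (R K V))) = 16 := by rw [h1]; exact h2
    rw [Nat.card_zpowers] at h4
    omega

/-- `A` as a commutative group -/
@[reducible] def cg : CommGroup A := { (inferInstance : Group A) with mul_comm := h.comm }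

theorem chi_one (a : A) : h.chi a 1 = 1 := by
  have h1 := h.chi_mul a 1 1
  rw [mul_one] at h1
  exact left_eq_mul.1 h1

theorem chi_prod (a : A) (T : Finset h.Om) :
    h.chi a (@Finset.prod _ _ h.cg.toCommMonoid T (fun x => x.1)) = ∏ x ∈ T, h.chi a x.1 := by
  classical
  let _ := h.cg
  induction T using Finset.induction_on with
  | empty => rw [Finset.prod_empty, Finset.prod_empty, h.chi_one]
  | insert x T hx ih =>
    rw [Finset.prod_insert hx, Finset.prod_insert hx, ← ih]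
    exact h.chi_mul _ _ _

theorem prod_one (T : Finset h.Om) (hT : ∀ (f : S) x, x ∈ T → h.act hS f x ∈ T) :
    @Finset.prod _ _ h.cg.toCommMonoid T (fun x => x.1) = 1 := by
  classical
  let _ := h.cg
  apply h.eq_one_of_fix hS
  intro f
  have h1 : hS.cjA f (∏ x ∈ T, x.1) = ∏ x ∈ T, hS.cjA f x.1 := by
    let F : A →* A := MonoidHom.mk' (hS.cjA f) (by
      intro a c
      apply Subtype.ext
      change (f : Equiv.Perm (R K V)) * (a * c) * (f : Equiv.Perm (R K V))⁻¹ =
        (f * a * (f : Equiv.Perm (R K V))⁻¹) * (f * c * (f : Equiv.Perm (R K V))⁻¹)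
      group)
    exact map_prod F (fun x : h.Om => x.1) T
  rw [h1]
  refine Finset.prod_bij (fun x _ => h.act hS f x) (fun x hx => hT f x hx) ?_ ?_ ?_
  · intro x _ y _ hxy
    exact (h.act hS f).injective hxy
  · intro y hy
    refine ⟨(h.act hS f).symm y, ?_, (h.act hS f).apply_symm_apply y⟩
    have h2 : h.act hS f⁻¹ y = (h.act hS f).symm y := by rw [map_inv]; rfl
    rw [← h2]
    exact hT f⁻¹ y hy
  · intro x _
    rfl

theorem finOm : Finite h.Om := Nat.finite_of_card_ne_zero (by rw [h.card_om]; decide)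

/-- an invariant set is empty or everything -/
theorem inv_set (T : Finset h.Om) (hT : ∀ (f : S) x, x ∈ T → h.act hS f x ∈ T) (hne : T.Nonempty) (y : h.Om) :
    y ∈ T := by
  classical
  by_contra hy
  have h1 := h.prod_one hS T hT
  obtain ⟨x, hx⟩ := hne
  have h2 : ∀ a : A, ∏ x ∈ T, h.chi a x.1 = 1 := by
    intro a
    rw [← h.chi_prod, h1, h.chi_one]
  have h3 := h2 y.1
  rw [Finset.prod_congr rfl (fun z hz => h.anti (x := y) (y := z) (fun he => hy (he ▸ hz))), Finset.prod_const] at h3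
  have h4 := h2 x.1
  rw [← Finset.mul_prod_erase T _ hx, h.chi_self, one_mul,
    Finset.prod_congr rfl (fun z hz => h.anti (x := x) (y := z) (fun he => Finset.ne_of_mem_erase hz he.symm)),
    Finset.prod_const, Finset.card_erase_of_mem hx] at h4
  have h5 : 0 < T.card := Finset.card_pos.2 ⟨x, hx⟩
  obtain ⟨k, hk⟩ : ∃ k, T.card = k + 1 := ⟨T.card - 1, by omega⟩
  rw [hk, Nat.add_sub_cancel] at h4
  rw [hk, pow_succ, h4] at h3
  revert h3
  decide

theorem exists_trans (x y : h.Om) : ∃ f : S, h.act hS f x = y := by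
  classical
  have := h.finOm
  have : Fintype h.Om := Fintype.ofFinite _
  have h1 := h.inv_set hS (Finset.univ.filter fun y => ∃ f : S, h.act hS f x = y) (by
    intro f z hz
    rw [Finset.mem_filter] at hz ⊢
    obtain ⟨-, g, rfl⟩ := hz
    exact ⟨Finset.mem_univ _, f * g, by rw [map_mul]; rfl⟩) ⟨x, Finset.mem_filter.2 ⟨Finset.mem_univ _, 1, by rw [map_one]; rfl⟩⟩ y
  exact (Finset.mem_filter.1 h1).2

include hS in
theorem prod_univ [Fintype h.Om] : @Finset.prod _ _ h.cg.toCommMonoid Finset.univ (fun x : h.Om => x.1) = 1 :=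
  h.prod_one hS _ fun _ _ _ => Finset.mem_univ _

include hS in
theorem prod_five (σ : Fin 5 ≃ h.Om) : (σ 0).1 * (σ 1).1 * (σ 2).1 * (σ 3).1 * (σ 4).1 = 1 := by
  classical
  have := h.finOm
  have : Fintype h.Om := Fintype.ofFinite _
  let _ := h.cg
  have h1 := h.prod_univ hS
  rw [← Equiv.prod_comp σ, Fin.prod_univ_five] at h1
  exact h1

include hS in
theorem prod_scalar (σ : Fin 5 ≃ h.Om) : ∃ s : K, s ≠ 0 ∧
    (L (σ 0).1 : R K V) * L (σ 1).1 * L (σ 2).1 * L (σ 3).1 * L (σ 4).1 = s • (1 : R K V) := by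
  have h1 : H198.FC.cj K V (L (σ 0).1 * L (σ 1).1 * L (σ 2).1 * L (σ 3).1 * L (σ 4).1) = H198.FC.cj K V 1 := by
    have h2 := congrArg Subtype.val (h.prod_five hS σ)
    rw [map_mul, map_mul, map_mul, map_mul, h.cj, h.cj, h.cj, h.cj, h.cj]
    exact h2.trans (map_one (H198.FC.cj K V)).symm
  obtain ⟨s, hs, h2⟩ := cj_eq h1
  exact ⟨s, hs, h2⟩

theorem sa (x : h.Om) : b.Adj (L x.1 : R K V) (L x.1 : R K V) := by
  have h1 := h.ee_adj x.1
  rw [x.2.2] at h1
  simpa using h1

/-- the product of the squares is a square -/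
theorem prod_sq (σ : Fin 5 ≃ h.Om) (c : A → K) (hc : ∀ a, (L a : R K V) * L a = c a • (1 : R K V)) {s : K}
    (hs : (L (σ 0).1 : R K V) * L (σ 1).1 * L (σ 2).1 * L (σ 3).1 * L (σ 4).1 = s • (1 : R K V)) :
    s * s = c (σ 0).1 * c (σ 1).1 * c (σ 2).1 * c (σ 3).1 * c (σ 4).1 := by
  have h1 := adj_mul (adj_mul (adj_mul (adj_mul (h.sa (σ 0)) (h.sa (σ 1))) (h.sa (σ 2))) (h.sa (σ 3))) (h.sa (σ 4))
  rw [hs] at h1
  have h2 := H886.FC.adj_unique b h1 (adj_smul h.tau adj_one s)
  have h3 : (L (σ 0).1 : R K V) * L (σ 1).1 * L (σ 2).1 * L (σ 3).1 * L (σ 4).1 *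
      ((L (σ 4).1 : R K V) * (L (σ 3).1 * (L (σ 2).1 * (L (σ 1).1 * L (σ 0).1)))) =
      (c (σ 0).1 * c (σ 1).1 * c (σ 2).1 * c (σ 3).1 * c (σ 4).1) • (1 : R K V) := by
    calc _ = (L (σ 0).1 : R K V) * (L (σ 1).1 * (L (σ 2).1 * (L (σ 3).1 * (L (σ 4).1 * L (σ 4).1) * L (σ 3).1) *
        L (σ 2).1) * L (σ 1).1) * L (σ 0).1 := by noncomm_ring
      _ = _ := by
        rw [hc]
        simp only [mul_smul_comm, smul_mul_assoc, mul_one]
        rw [hc]
        simp only [mul_smul_comm, smul_mul_assoc, mul_one]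
        rw [hc]
        simp only [mul_smul_comm, smul_mul_assoc, mul_one]
        rw [hc]
        simp only [mul_smul_comm, smul_mul_assoc, mul_one]
        rw [hc]
        simp only [smul_smul]
        congr 1
        ring
  rw [h2, hs, smul_mul_smul_comm, one_mul] at h3
  have h4 : (s * s - c (σ 0).1 * c (σ 1).1 * c (σ 2).1 * c (σ 3).1 * c (σ 4).1) • (1 : R K V) = 0 := by
    rw [sub_smul, h3, sub_self]
  exact sub_eq_zero.1 ((smul_eq_zero.1 h4).resolve_right one_ne_zero)

include hS in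
theorem isSquare_all (c : A → K) (hc : ∀ a, (L a : R K V) * L a = c a • (1 : R K V)) (x : h.Om) :
    IsSquare (c x.1) := by
  classical
  have := h.finOm
  have : Fintype h.Om := Fintype.ofFinite _
  have : Fintype K := Fintype.ofFinite K
  have hinv : ∀ (f : S) (x : h.Om), IsSquare (c x.1) → IsSquare (c (h.act hS f x).1) := by
    rintro f x ⟨t, ht⟩
    have hfP := (hS.rb f.2).1
    obtain ⟨d, hd, h1⟩ := h.map_L hS f x.1
    obtain ⟨t', ht'⟩ := exists_center hfP t
    have h2 : (f : Equiv.Perm (R K V)) ((L x.1 : R K V) * L x.1) = (t' * t') • (1 : R K V) := by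
      rw [hc, ht]
      have h3 : (t * t) • (1 : R K V) = (t • (1 : R K V)) * (t • (1 : R K V)) := by
        rw [smul_mul_smul_comm, one_mul]
      rw [h3, hfP.2, ht', smul_mul_smul_comm, one_mul]
    rw [hfP.2, h1, smul_mul_smul_comm, hc, smul_smul] at h2
    have h4 : (d * d * c (hS.cjA f x.1) - t' * t') • (1 : R K V) = 0 := by
      rw [sub_smul, h2, sub_self]
    have h5 := sub_eq_zero.1 ((smul_eq_zero.1 h4).resolve_right one_ne_zero)
    refine ⟨t' / d, ?_⟩
    rw [h.act_val]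
    field_simp
    linear_combination h5
  by_cases hne : ∃ y : h.Om, IsSquare (c y.1)
  · obtain ⟨y, hy⟩ := hne
    exact (Finset.mem_filter.1 (h.inv_set hS (Finset.univ.filter fun x : h.Om => IsSquare (c x.1)) (by
      intro f z hz
      rw [Finset.mem_filter] at hz ⊢
      exact ⟨Finset.mem_univ _, hinv f z hz.2⟩) ⟨y, Finset.mem_filter.2 ⟨Finset.mem_univ _, hy⟩⟩ x)).2
  · exfalso
    push Not at hne
    obtain ⟨σ⟩ : Nonempty (Fin 5 ≃ h.Om) := by
      have h1 := h.card_om
      rw [Nat.card_eq_fintype_card] at h1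
      exact ⟨(Fintype.equivFinOfCardEq h1).symm⟩
    obtain ⟨s, hs, h1⟩ := h.prod_scalar hS σ
    have h2 := h.prod_sq σ c hc h1
    have h3 := congrArg (quadraticChar K) h2
    simp only [map_mul] at h3
    have h4 : ∀ i, quadraticChar K (c (σ i).1) = -1 := fun i => quadraticChar_neg_one_iff_not_isSquare.2 (hne _)
    rw [h4, h4, h4, h4, h4] at h3
    have h5 : quadraticChar K s * quadraticChar K s = 1 := by
      rw [← _root_.pow_two]
      exact quadraticChar_sq_one hs
    rw [h5] at h3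
    norm_num at h3

end Lf

end Cfsg.Agent.H99.FC

namespace Cfsg.Agent.H99.FC

open Module Cfsg.Agent.H198.FC

universe u v

variable {K : Type u} [Field K] {V : Type v} [AddCommGroup V] [Module K V]

theorem five_of_lf [Nontrivial V] [Finite K] [FiniteDimensional K V] {b : Cl K V} {A : Subgroup (Equiv.Perm (R K V))}
    {L : A → (R K V)ˣ} (h : Lf b A L) {S : Subgroup (Equiv.Perm (R K V))} (hS : Gp b A S) : FiveB b S := by
  classical
  have := h.finOm
  have : Fintype h.Om := Fintype.ofFinite _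
  have := h.finA
  have : Fintype A := Fintype.ofFinite _
  obtain ⟨σ⟩ : Nonempty (Fin 5 ≃ h.Om) := by
    have h1 := h.card_om
    rw [Nat.card_eq_fintype_card] at h1
    exact ⟨(Fintype.equivFinOfCardEq h1).symm⟩
  have hsq : ∀ a, ∃ d : K, d ≠ 0 ∧ (L a : R K V) * L a = d • (1 : R K V) := fun a => sq_smul (h.pow_two a)
  choose c hc0 hc using hsq
  have hsqr : ∀ i, ∃ t : K, c (σ i).1 = t * t := fun i => h.isSquare_all hS c hc (σ i)
  choose t ht using hsqr
  have ht0 : ∀ i, t i ≠ 0 := fun i h0 => hc0 (σ i).1 (by rw [ht, h0, mul_zero])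
  obtain ⟨s, hs0, hs⟩ := h.prod_scalar hS σ
  have hss := h.prod_sq σ c hc hs
  let Z : Fin 5 → R K V := fun i => (t i)⁻¹ • (L (σ i).1 : R K V)
  have hZdef : ∀ i, Z i = (t i)⁻¹ • (L (σ i).1 : R K V) := fun i => rfl
  have hLZ : ∀ i, (L (σ i).1 : R K V) = t i • Z i := by
    intro i
    rw [hZdef, smul_smul, mul_inv_cancel₀ (ht0 i), one_smul]
  have hZsq : ∀ i, Z i * Z i = 1 := by
    intro i
    rw [hZdef, smul_mul_smul_comm, hc, smul_smul, ht]
    have : (t i)⁻¹ * (t i)⁻¹ * (t i * t i) = 1 := by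
      have := ht0 i
      field_simp
    rw [this, one_smul]
  have hZ0 : ∀ i, Z i ≠ 0 := by
    intro i h0
    have := hZsq i
    rw [h0, mul_zero] at this
    exact zero_ne_one this
  -- the action on the frame
  let ρ : S →* Equiv.Perm (Fin 5) := (σ.symm.permCongrHom.toMonoidHom).comp (h.act hS)
  have hρ : ∀ (f : S) (i : Fin 5), σ (ρ f i) = h.act hS f (σ i) := by
    intro f i
    change σ (σ.symm (h.act hS f (σ.symm.symm i))) = _
    rw [Equiv.apply_symm_apply, Equiv.symm_symm]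
  have hact : ∀ (f : S) (i : Fin 5), (f : Equiv.Perm (R K V)) (Z i) = Z (ρ f i) ∨
      (f : Equiv.Perm (R K V)) (Z i) = -Z (ρ f i) := by
    intro f i
    have hfP := (hS.rb f.2).1
    obtain ⟨d, hd, h1⟩ := h.map_L hS f (σ i).1
    obtain ⟨t', ht'⟩ := exists_center hfP (t i)⁻¹
    have h2 : (f : Equiv.Perm (R K V)) (Z i) = (t' * (d * t (ρ f i))) • Z (ρ f i) := by
      rw [hZdef i, map_smul' hfP ht', h1, ← h.act_val hS f (σ i), ← hρ, hLZ, smul_smul, smul_smul, mul_assoc]
    have h3 : (f : Equiv.Perm (R K V)) (Z i * Z i) = 1 := by rw [hZsq, map_one' hfP]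
    rw [hfP.2, h2, smul_mul_smul_comm, hZsq] at h3
    have h4 : (t' * (d * t (ρ f i)) * (t' * (d * t (ρ f i))) - 1) • (1 : R K V) = 0 := by
      rw [sub_smul, h3, one_smul, sub_self]
    have h5 := (smul_eq_zero.1 h4).resolve_right one_ne_zero
    have h6 : (t' * (d * t (ρ f i)) - 1) * (t' * (d * t (ρ f i)) + 1) = 0 := by linear_combination h5
    rcases mul_eq_zero.1 h6 with h7 | h7
    · left
      rw [h2, sub_eq_zero.1 h7, one_smul]
    · right
      rw [h2, eq_neg_of_add_eq_zero_left h7, neg_smul, one_smul]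
  have hind : LinearIndependent K Z := by
    have h1 : LinearIndependent K (fun i : Fin 5 => (L (σ i).1 : R K V)) :=
      h.indep.comp (fun i : Fin 5 => (σ i).1) (fun i j hij => σ.injective (Subtype.ext hij))
    have h2 := h1.units_smul (fun i => (Units.mk0 (t i) (ht0 i))⁻¹)
    have h3 : Z = (fun i => (Units.mk0 (t i) (ht0 i))⁻¹) • fun i : Fin 5 => (L (σ i).1 : R K V) := by
      funext i
      rfl
    rw [h3]
    exact h2
  have hprod : Z 0 * Z 1 * Z 2 * Z 3 * Z 4 =
      ((t 0)⁻¹ * (t 1)⁻¹ * (t 2)⁻¹ * (t 3)⁻¹ * (t 4)⁻¹ * s) • (1 : R K V) := by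
    simp only [hZdef, smul_mul_smul_comm]
    rw [hs, smul_smul]
  have hF : Frame b Z := by
    refine ⟨h.two, hZsq, ?_, ?_, hind, ?_, ?_⟩
    · intro i j hij
      rw [hZdef, hZdef, smul_mul_smul_comm, smul_mul_smul_comm, h.chi_eq, h.anti (x := σ i) (y := σ j)
        (fun he => hij (σ.injective he)), mul_comm (t j)⁻¹]
      simp
    · intro i
      exact adj_smul h.tau (h.sa (σ i)) _
    · rw [hprod]
      have h1 : ((t 0)⁻¹ * (t 1)⁻¹ * (t 2)⁻¹ * (t 3)⁻¹ * (t 4)⁻¹ * s) *
          ((t 0)⁻¹ * (t 1)⁻¹ * (t 2)⁻¹ * (t 3)⁻¹ * (t 4)⁻¹ * s) = 1 := by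
        have e : ((t 0)⁻¹ * (t 1)⁻¹ * (t 2)⁻¹ * (t 3)⁻¹ * (t 4)⁻¹ * s) *
          ((t 0)⁻¹ * (t 1)⁻¹ * (t 2)⁻¹ * (t 3)⁻¹ * (t 4)⁻¹ * s) = (t 0 * t 0)⁻¹ * (t 1 * t 1)⁻¹ * (t 2 * t 2)⁻¹ *
            (t 3 * t 3)⁻¹ * (t 4 * t 4)⁻¹ * (s * s) := by
          simp only [mul_inv]
          ring
        rw [e, hss, ht, ht, ht, ht, ht]
        have := ht0 0
        have := ht0 1
        have := ht0 2
        have := ht0 3
        have := ht0 4
        field_simp
      generalize (t 0)⁻¹ * (t 1)⁻¹ * (t 2)⁻¹ * (t 3)⁻¹ * (t 4)⁻¹ * s = w at h1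
      have h2 : (w - 1) * (w + 1) = 0 := by linear_combination h1
      rcases mul_eq_zero.1 h2 with h3 | h3
      · left
        rw [sub_eq_zero.1 h3, one_smul]
      · right
        rw [eq_neg_of_add_eq_zero_left h3, neg_smul, one_smul]
    · -- generation
      let N : Subgroup (Equiv.Perm (R K V)) :=
        { carrier := {a | a ∈ A ∧ ∀ x : (R K V)ˣ, cj K V x = a → (x : R K V) ∈ Algebra.adjoin K (Set.range Z)}
          one_mem' := ⟨one_mem _, fun x hx => by
            rw [← map_one (cj K V)] at hx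
            obtain ⟨w, -, hw⟩ := cj_eq hx
            rw [hw, Units.val_one]
            exact Subalgebra.smul_mem _ (one_mem _) _⟩
          mul_mem' := by
            rintro a d ⟨ha, ha'⟩ ⟨hd, hd'⟩
            refine ⟨mul_mem ha hd, fun x hx => ?_⟩
            have h1 : cj K V x = cj K V (L ⟨a, ha⟩ * L ⟨d, hd⟩) := by rw [hx, map_mul, h.cj, h.cj]
            obtain ⟨w, -, hw⟩ := cj_eq h1
            rw [hw, Units.val_mul]
            exact Subalgebra.smul_mem _ (mul_mem (ha' _ (h.cj _)) (hd' _ (h.cj _))) _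
          inv_mem' := by
            rintro a ⟨ha, ha'⟩
            have h1 : a⁻¹ = a := by
              rw [inv_eq_iff_mul_eq_one]
              exact congrArg Subtype.val (h.sq ⟨a, ha⟩)
            rw [h1]
            exact ⟨ha, ha'⟩ }
      have hmap : ∀ (g : S) (X : R K V), X ∈ Algebra.adjoin K (Set.range Z) →
          (g : Equiv.Perm (R K V)) X ∈ Algebra.adjoin K (Set.range Z) := by
        intro g X hX
        have hgP := (hS.rb g.2).1
        induction hX using Algebra.adjoin_induction with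
        | mem x hx =>
          obtain ⟨i, rfl⟩ := hx
          rcases hact g i with h1 | h1 <;> rw [h1]
          · exact Algebra.subset_adjoin ⟨_, rfl⟩
          · exact neg_mem (Algebra.subset_adjoin ⟨_, rfl⟩)
        | algebraMap a =>
          rw [Algebra.algebraMap_eq_smul_one]
          obtain ⟨a', ha'⟩ := exists_center hgP a
          rw [ha']
          exact Subalgebra.smul_mem _ (one_mem _) _
        | add x y _ _ hx hy =>
          rw [hgP.1]
          exact add_mem hx hy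
        | mul x y _ _ hx hy =>
          rw [hgP.2]
          exact mul_mem hx hy
      have hN := hS.min N (fun a ha => ha.1) (by
        rintro g hg a ⟨ha, ha'⟩
        refine ⟨hS.norm g hg a ha, fun x hx => ?_⟩
        have hgP := (hS.rb hg).1
        have h1 : cj K V x = cj K V (mapU hgP (L ⟨a, ha⟩)) := by rw [hx, cj_mapU, h.cj]
        obtain ⟨w, -, hw⟩ := cj_eq h1
        rw [hw]
        exact Subalgebra.smul_mem _ (hmap ⟨g, hg⟩ _ (ha' _ (h.cj _))) _)
      have hNe : N = A := by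
        refine hN.resolve_left fun hbot => ?_
        apply (σ 0).2.1
        have h1 : ((σ 0).1 : Equiv.Perm (R K V)) ∈ N := by
          refine ⟨(σ 0).1.2, fun x hx => ?_⟩
          have h2 : cj K V x = cj K V (L (σ 0).1) := by rw [hx, h.cj]
          obtain ⟨w, -, hw⟩ := cj_eq h2
          rw [hw, hLZ]
          exact Subalgebra.smul_mem _ (Subalgebra.smul_mem _ (Algebra.subset_adjoin (Set.mem_range_self 0)) _) _
        rw [hbot, Subgroup.mem_bot] at h1
        exact Subtype.ext h1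
      rw [eq_top_iff]
      intro X _
      have hX : X ∈ Submodule.span K (Set.range fun a => (L a : R K V)) := by
        rw [h.span]; trivial
      have h1 : Submodule.span K (Set.range fun a => (L a : R K V)) ≤
          Subalgebra.toSubmodule (Algebra.adjoin K (Set.range Z)) := by
        rw [Submodule.span_le]
        rintro _ ⟨a, rfl⟩
        have h2 : (a : Equiv.Perm (R K V)) ∈ N := by
          rw [hNe]; exact a.2
        exact h2.2 _ (h.cj a)
      exact h1 hX
  have hρ' : ∀ f ∈ S, ∀ (π : Equiv.Perm (Fin 5)) (ε : Fin 5 → ℤ), (∀ i, ε i = 1 ∨ ε i = -1) →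
      (∀ i, f (Z i) = (ε i : K) • Z (π i)) → ∀ hf : f ∈ S, π = ρ ⟨f, hf⟩ := by
    intro f _ π ε hε hπ hf
    apply Equiv.ext
    intro i
    have h1 := hπ i
    by_contra hne
    have h2 : ∃ e : K, e ≠ 0 ∧ e • Z (ρ ⟨f, hf⟩ i) = (ε i : K) • Z (π i) := by
      rcases hact ⟨f, hf⟩ i with h3 | h3
      · exact ⟨1, one_ne_zero, by rw [one_smul, ← h1]; exact h3.symm⟩
      · exact ⟨-1, neg_ne_zero.2 one_ne_zero, by rw [neg_smul, one_smul, ← h1]; exact h3.symm⟩
    obtain ⟨e, he, h3⟩ := h2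
    rw [zz_single, zz_single] at h3
    have h4 := congrFun (zz_inj hind h3) (ρ ⟨f, hf⟩ i)
    rw [if_pos rfl, if_neg (Ne.symm hne)] at h4
    exact he h4
  refine hF.five h.tau h.fin S (fun f hf => (hS.rb hf).1) ?_ ?_
  · intro f hf
    refine ⟨ρ ⟨f, hf⟩, fun i => if f (Z i) = Z (ρ ⟨f, hf⟩ i) then 1 else -1, fun i => ?_, fun i => ?_⟩
    · change (if f (Z i) = Z (ρ ⟨f, hf⟩ i) then (1 : ℤ) else -1) = 1 ∨ (if f (Z i) = Z (ρ ⟨f, hf⟩ i) then (1 : ℤ) else -1) = -1
      split_ifs
      · left; rfl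
      · right; rfl
    · change f (Z i) = ((if f (Z i) = Z (ρ ⟨f, hf⟩ i) then (1 : ℤ) else -1 : ℤ) : K) • Z (ρ ⟨f, hf⟩ i)
      split_ifs with h1
      · rw [h1]; simp
      · have h2 := (hact ⟨f, hf⟩ i).resolve_left h1
        change f (Z i) = _ at h2
        rw [h2]; simp
  · intro f hf π ε hε hπ i j hij hi hj
    have h1 := hρ' f hf π ε hε hπ hf
    have := hS.sol
    have hsol : Group.IsSolvable ρ.range := Group.isSolvable_of_surjective ρ.rangeRestrict_surjective
    refine perm5 ρ.range hsol ?_ (g := π) (by rw [h1]; exact ⟨_, rfl⟩) hij hi hj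
    intro i j
    obtain ⟨g, hg⟩ := h.exists_trans hS (σ i) (σ j)
    refine ⟨ρ g, ⟨g, rfl⟩, ?_⟩
    apply σ.injective
    rw [hρ, hg]

/-- **StmtBC6 for symplectic forms in dimension 4.** -/
theorem bc6S4 [Finite K] [Module.Finite K V] (b : Cl K V) (hb : b.IsSp) (hn : Module.finrank K V = 4)
    (S : Subgroup (Equiv.Perm (R K V))) (hSB : S ≤ RB b) (hsol : Group.IsSolvable S)
    (A : Subgroup (Equiv.Perm (R K V))) (r a : ℕ) (hC : C6Data S A r a) : FiveB b S := by
  obtain ⟨hr, ha, hra, hAS, hAI, hcard, hex, hcomm, hspan, hnorm, hmin⟩ := hC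
  have hr2 : r = 2 := by
    rw [hn] at hra
    have h1 : r ∣ 2 ^ 2 := by
      have h2 : (2 : ℕ) ^ 2 = r ^ a := by rw [← hra]; norm_num
      rw [h2]
      exact dvd_pow_self r (by omega)
    exact (Nat.prime_dvd_prime_iff_eq hr Nat.prime_two).1 (hr.dvd_of_dvd_pow h1)
  subst hr2
  have ha2 : a = 2 := by
    rw [hn] at hra
    have h1 : 2 ^ a = 2 ^ 2 := by rw [← hra]; norm_num
    exact Nat.pow_right_injective (le_refl 2) h1
  subst ha2
  have : Nontrivial V := Module.nontrivial_of_finrank_pos (R := K) (by rw [hn]; norm_num)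
  have hL : ∀ x : A, ∃ y : (R K V)ˣ, cj K V y = x := fun x => hAI x.2
  choose L hL using hL
  have hLf : Lf b A L :=
    { tau := hb.1
      alt := hb.2
      fin := hn
      cj := hL
      sq := fun x => Subtype.ext (by rw [← pow_two]; exact hex x x.2)
      comm := fun x y => Subtype.ext (hcomm x x.2 y y.2)
      rb := hAS.trans hSB
      span := by
        rw [eq_top_iff, ← hspan, Submodule.span_le]
        rintro X ⟨x, rfl, hx⟩
        obtain ⟨w, -, hw⟩ := cj_eq (x := x) (y := L ⟨_, hx⟩) (by rw [hL])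
        rw [hw]
        exact Submodule.smul_mem _ _ (Submodule.subset_span ⟨_, rfl⟩)
      card := by rw [hcard]; norm_num }
  have hGp : Gp b A S := ⟨hSB, hAS, hsol, hnorm, hmin⟩
  exact five_of_lf hLf hGp

end Cfsg.Agent.H99.FC
end
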